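import Mathlib
import Cfsg.Agent.Ch.UniversalCover
import Cfsg.Agent.Cl.LinearBlock
import Cfsg.Agent.GT.PiGroups
import Cfsg.Agent.S2088
import Cfsg.Agent.S2102

/-! Covers of `L₃(4)` and `G₂(4)` with centre of odd order. -/

set_option autoImplicit false

namespace Cfsg.Agent.STP

open Cfsg Cfsg.Agent.GT Subgroup Matrix

variable {A Q : Type*} [Group A] [Finite A] [Group Q] {F : Type*} [Field F] [Fintype F]

omit [Finite A] in
theorem ker_cover (e : A ⧸ center A ≃* Q) :
    (e.toMonoidHom.comp (QuotientGroup.mk' (center A))).ker = center A := by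
  ext x
  simp only [MonoidHom.mem_ker, MonoidHom.comp_apply, MulEquiv.coe_toMonoidHom,
    EmbeddingLike.map_eq_one_iff, QuotientGroup.mk'_apply, QuotientGroup.eq_one_iff]

omit [Finite A] in
theorem stem_cover [Group.IsPerfect A] (e : A ⧸ center A ≃* Q) :
    IsStemExtension (e.toMonoidHom.comp (QuotientGroup.mk' (center A))) :=
  Ch.isStemExtension_of_isPerfect (e.surjective.comp (QuotientGroup.mk'_surjective _))
    (ker_cover e).le

omit [Finite A] in
theorem card_center_dvd [Group.IsPerfect A] {M : Type*} [CommGroup M] (h : HasSchurMultiplier Q M)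
    (e : A ⧸ center A ≃* Q) : Nat.card (center A) ∣ Nat.card M :=
  ker_cover e ▸ h.card_ker_dvd _ (stem_cover e)

theorem card_mult : Nat.card (Multiplicative (ZMod 3 × ZMod 4 × ZMod 4)) = 48 := by
  rw [Nat.card_congr Multiplicative.toAdd, Nat.card_prod, Nat.card_prod, Nat.card_zmod, Nat.card_zmod]

omit [Finite A] in
theorem card_center_l3 [Group.IsPerfect A] (hF : Fintype.card F = 4)
    (e : A ⧸ center A ≃* ProjectiveSpecialLinearGroup (Fin 3) F) : Nat.card (center A) ∣ 48 :=
  card_mult ▸ card_center_dvd (S2088.result hF) e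

omit [Finite A] in
theorem center_g2 [Group.IsPerfect A] (hF : Fintype.card F = 4)
    (e : A ⧸ center A ≃* Lie.chevG2.group F) (h : Odd (Nat.card (center A))) : center A = ⊥ := by
  have h1 := card_center_dvd (S2102.result hF) e
  rw [Nat.card_congr Multiplicative.toAdd, Nat.card_zmod] at h1
  exact (eq_bot_iff_card _).2 ((Nat.coprime_two_right.2 h).eq_one_of_dvd h1)

theorem card_center_sl3 (hF : Fintype.card F = 4) :
    Nat.card (center (SpecialLinearGroup (Fin 3) F)) = 3 := by
  rw [Cl.card_center_sl, Nat.card_eq_fintype_card, hF]; rfl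

theorem exists_sl3 [Group.IsPerfect A] (hF : Fintype.card F = 4)
    (e : A ⧸ center A ≃* ProjectiveSpecialLinearGroup (Fin 3) F) (h : Odd (Nat.card (center A))) :
    ∃ η : SpecialLinearGroup (Fin 3) F →* A, Function.Surjective η ∧ η.ker ≤ center _ := by
  have hM := S2088.result hF
  have : Group.IsPerfect (SpecialLinearGroup (Fin 3) F) := Cl.sl_isPerfect (Or.inl (by simp))
  have h1 := stem_cover e
  have : Group.IsPerfect (ProjectiveSpecialLinearGroup (Fin 3) F) :=
    Group.IsPerfect.ofSurjective h1.1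
  obtain ⟨Γ, _, _, σ, hσ, ⟨φ⟩, β, hβ, e1⟩ := hM.exists_cover (QuotientGroup.mk' _)
    (Ch.isStemExtension_of_isPerfect (QuotientGroup.mk'_surjective _) (QuotientGroup.ker_mk' _).le)
  have hk := Nat.card_congr φ.toEquiv
  obtain ⟨γ, e2⟩ := Ch.exists_lift_of_cover hM hσ hk h1.1 h1.2.1
  have h2 : σ.ker = (center _).comap β := by
    rw [← e1, ← MonoidHom.comap_ker, QuotientGroup.ker_mk']
  have h3 : β.ker ≤ σ.ker := h2 ▸ ker_le_comap β _
  have h4 : Nat.card β.ker = 2 ^ 4 := by
    have := card_map_mul_card_inf_ker σ.ker β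
    rw [inf_eq_right.2 h3, hk, card_mult, h2, map_comap_eq_self_of_surjective hβ,
      card_center_sl3 hF] at this
    omega
  have h5 : β.ker ≤ γ.ker := fun x hx => by
    have h6 : γ x ∈ center A := by
      rw [← ker_cover e, MonoidHom.mem_ker, ← MonoidHom.comp_apply, e2]; exact h3 hx
    exact orderOf_eq_one_iff.1 (Nat.eq_one_of_dvd_coprimes
      ((Nat.coprime_two_right.2 h).pow_right 4) (orderOf_dvd_natCard _ h6)
      ((orderOf_map_dvd γ x).trans (h4 ▸ orderOf_dvd_natCard _ hx)))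
  have h6 : Function.Surjective γ :=
    Ch.surjective_of_lift_of_ker_le_commutator γ _ h1.2.1 h1.2.2 (e2 ▸ hσ.1)
  let η := β.liftOfSurjective hβ ⟨γ, h5⟩
  have h8 : ∀ x, η (β x) = γ x := fun x => MonoidHom.liftOfRightInverse_comp_apply _ _ _ _ x
  refine ⟨η, fun a => ?_, fun s hs => ?_⟩
  · obtain ⟨x, rfl⟩ := h6 a
    exact ⟨β x, h8 x⟩
  · obtain ⟨x, rfl⟩ := hβ s
    rw [MonoidHom.mem_ker, h8] at hs
    rw [← mem_comap, ← h2, MonoidHom.mem_ker, ← e2, MonoidHom.comp_apply, hs, map_one]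

theorem iso_l3 [Group.IsPerfect A] (hF : Fintype.card F = 4)
    (e : A ⧸ center A ≃* ProjectiveSpecialLinearGroup (Fin 3) F) (h : Odd (Nat.card (center A))) :
    Nonempty (A ≃* ProjectiveSpecialLinearGroup (Fin 3) F) ∨
      Nonempty (A ≃* SpecialLinearGroup (Fin 3) F) := by
  obtain ⟨η, h1, h2⟩ := exists_sl3 hF e h
  have h3 := card_dvd_of_le h2
  rw [card_center_sl3 hF, Nat.dvd_prime Nat.prime_three] at h3
  rcases h3 with h3 | h3
  · exact Or.inr ⟨(MulEquiv.ofBijective η
      ⟨η.ker_eq_bot_iff.1 ((eq_bot_iff_card _).2 h3), h1⟩).symm⟩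
  · exact Or.inl ⟨(QuotientGroup.quotientKerEquivOfSurjective η h1).symm.trans
      (QuotientGroup.quotientMulEquivOfEq
        (eq_of_le_of_card_ge h2 (by rw [h3, card_center_sl3 hF])))⟩

end Cfsg.Agent.STP
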