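import Mathlib
import Cfsg.Agent.STA.P1A

/-! The double cover of `G₂(4)` as a standard subgroup: the frame and facts on letters. -/

set_option autoImplicit false
set_option linter.unusedSectionVars false

namespace Cfsg.Agent.STP

open Cfsg Cfsg.Agent.Loc.Mss Subgroup Cfsg.Agent.STA

section Letters

variable {B : Type*} [Group B] [Finite B] (s : Std true B)

theorem em1 : STA.em true = 1 := rfl

theorem comm_of_sq {P Q : Subgroup B} (h : ∀ d ∈ Q, d * d ∈ P) {p q : B} (hp : p ∈ Q) (hq : q ∈ Q) :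
    p * q * p⁻¹ * q⁻¹ ∈ P := by
  have := mul_mem (mul_mem (h _ (mul_mem hp hq)) (h _ (mul_mem (mul_mem (inv_mem hq) (inv_mem hp)) hq)))
    (h _ (inv_mem hq))
  simpa [mul_assoc] using this

theorem mem_D {g : B} (hg : g ∈ s.A) (h : Commute g (s.c 1)) : g ∈ s.D := by
  obtain ⟨d, hd, e⟩ := s.cen g hg h
  exact inv_mul_eq_one.1 ((s.z2 _ (mul_mem (inv_mem (s.D_le_A hd)) hg) e).2 rfl) ▸ hd

theorem ξ_D : s.ξ ∈ s.D := mem_D s s.mem'.2.2.2.2 (s.ξcom.2.2.2 1).2.2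

theorem ξ_comm (t : F) : s.ξ * s.s1 (ω * t) * s.ξ⁻¹ * (s.s1 (ω * t))⁻¹ = s.s1 t ∧
    s.ξ * s.s2 (ω ^ 2 * t) * s.ξ⁻¹ * (s.s2 (ω ^ 2 * t))⁻¹ = s.s2 t ∧
    s.ξ * s.x (ω * t) * s.ξ⁻¹ * (s.x (ω * t))⁻¹ = s.x t := by
  have z : ∀ t : F, ω * (ω * t) + ω * t = t ∧ ω ^ 2 * (ω ^ 2 * t) + ω ^ 2 * t = t := by decide +kernel
  rw [(s.ξact _).1, (s.ξact _).2.1, (s.ξact _).2.2, add_inv s.s1_add, add_inv s.s2_add, add_inv s.x_add,
    ← s.s1_add, ← s.s2_add, ← s.x_add, (z t).1, (z t).2]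
  exact ⟨rfl, rfl, rfl⟩

theorem a_comm (t : F) : s.x 1 * s.s2 t * (s.x 1)⁻¹ * (s.s2 t)⁻¹ = s.a t := by
  rw [(s.xact rfl 1 t).2.2, mul_inv_cancel_right, one_mul]

theorem b_eq (t : F) : s.w * s.a t * s.w⁻¹ = s.b t := by
  rw [inv_eq_of_mul_eq_one_right s.nn.2.2, ((s.wact rfl).2.2 t).1]

theorem c_sq (t : F) : s.a t * s.b 1 * (s.a t * s.b 1) = s.c t := by
  rw [(s.el_letters t).1, (s.el_letters 1).2.1, Lt.el_mul, Lt.el_sq]
  simp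

theorem D_le_sq {P : Subgroup B} (h : ∀ d ∈ s.D, d * d ∈ P) : s.D ≤ P := by
  have L := s.letters_mem
  have Q := fun u (hu : u ∈ s.QA) => s.QA_le_D hu
  have k1 := fun t => (ξ_comm s t).1 ▸ comm_of_sq h (ξ_D s) (Q _ (L _).2.2.1)
  have k2 := fun t => (ξ_comm s t).2.1 ▸ comm_of_sq h (ξ_D s) (Q _ (L _).2.2.2.1)
  have k3 := fun t => (ξ_comm s t).2.2 ▸ comm_of_sq h (ξ_D s) (L _).2.2.2.2.2.1
  have k4 := fun t => a_comm s t ▸ comm_of_sq h (L _).2.2.2.2.2.1 (Q _ (L _).2.2.2.1)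
  have wD := (L 0).2.2.2.2.2.2
  refine s.D_le (fun t => ⟨k4 t, ?_, c_sq s t ▸ h _ (Q _ (mul_mem (L _).1 (L _).2.1)), k1 t, k2 t, k3 t⟩) ?_
  · simpa [b_eq] using mul_mem (comm_of_sq h wD (Q _ (L t).1)) (k4 t)
  · have := h _ (mul_mem wD (L 1).2.2.2.2.2.1)
    rw [← pow_two, eq_inv_of_mul_eq_one_left ((pow_succ _ 2).symm.trans (s.wact rfl).2.1), inv_mem_iff] at this
    exact (mul_mem_cancel_right (k3 1)).1 this

theorem h_x (t : F) : Commute s.h (s.x t) := by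
  obtain ⟨j, e⟩ := s.nh.1
  have nn := s.nn.1
  have e1 := ((s.wact rfl).2.2 t).2.2.1
  have hi : ∀ t, s.h⁻¹ * s.s1 t * s.h = s.s1 (ω ^ 2 * t) := fun t => by
    have := (s.hact (ω ^ 2 * t)).2.2.2.1
    rw [← mul_assoc, ← pow_succ', ω_cube, one_mul] at this
    rw [← this]; group
  have ξp : ∀ (i : ℕ) t, s.ξ ^ i * s.s1 t * (s.ξ ^ i)⁻¹ = s.s1 (ω ^ i * t) := fun i t => by
    induction i with
    | zero => simp
    | succ i ih => rw [pow_succ', mul_inv_rev, ← mul_assoc, mul_assoc s.ξ, mul_assoc s.ξ, ih, (s.ξact _).1,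
        pow_succ' ω, mul_assoc ω]
  have e2 : s.h * s.x t * s.h⁻¹ = s.x (ω ^ 2 * (ω ^ j * t)) := by
    have ni := inv_eq_of_mul_eq_one_right nn
    rw [← mul_left_inj s.n1⁻¹, ← mul_right_inj s.n1, ← mul_assoc, ← mul_assoc s.n1 (s.x _), ← conj_mul, ← conj_mul,
      ← conj_inv, ni, e, e1, ((s.wact rfl).2.2 _).2.2.1, ← hi, ← ξp]
    group
  have e3 := congrArg (MulAut.conj s.h) (s.xact rfl t 1).2.2
  simp only [map_mul, map_inv] at e3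
  simp only [MulAut.conj_apply, e2, (s.xact rfl _ _).2.2, (s.hact _).1, (s.hact _).2.2.2.2, mul_left_inj] at e3
  rw [(s.el_letters _).1, (s.el_letters _).1] at e3
  have := (s.el_inj e3).1
  rw [mul_one, mul_one, mul_comm ω t, mul_left_inj' ω_ne.1] at this
  rw [this] at e2
  exact mul_inv_eq_iff_eq_mul.1 e2

theorem sylA : Syl 2 s.U s.A := Syl.of_maximal s.syl.pg (s.U_le_D.trans s.D_le_A) fun P hP h1 h2 => by
  obtain ⟨δ, hδ, k⟩ := s.cenQ hP (h2.trans le_normalizer) (le_sup_left.trans h1)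
  exact s.syl.ge_of_le hP h1 fun p hp => mem_D s (h2 hp) (s.mem_cX.1 (s.cenX (h2 hp) hδ (k p hp)) 1).symm

theorem b_conj (β α β' t u γ τ : F) : ∃ p q, s.b β * (s.el α β' t u γ * s.x τ) * (s.b β)⁻¹ =
    s.el p β' (t + τ * β) (u + τ ^ 2 * β) q * s.x τ := by
  obtain ⟨δ, e⟩ := s.x_el rfl τ 0 β 0 0 0
  rw [add_inv s.b_add, (s.el_letters _).2.1, ← mul_assoc, mul_assoc, ← inv_mul_cancel_right (s.x τ * _) (s.x τ), e,
    ← mul_assoc, Lt.el_mul, Lt.el_mul]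
  simp only [zero_add, add_right_comm β, CharTwo.add_self_eq_zero]
  exact ⟨_, _, rfl⟩

theorem X_le_of {P : Subgroup B} (hn : s.QA ≤ 𝐍[P]) {u : B} (hP : u ∈ P) (hu : u ∈ s.U) (hX : u ∉ s.X) :
    s.X ≤ P := by
  have k : ∀ u ∈ P, u ∈ s.QA → u ∉ s.X → s.X ≤ P := by
    rintro u hP hu hX _ ⟨δ, rfl⟩
    obtain ⟨w, hw, e⟩ := s.comm_onto hu hX δ
    exact (mul_mem_cancel_left hP).1 (e ▸ conj_mem_of_norm (hn hw) hP)
  obtain ⟨q, hq, τ, rfl⟩ := s.mem_U.1 hu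
  by_cases h : τ = 0
  · rw [h, add_zero' s.x_add, mul_one] at hP hX
    exact k q hP hq hX
  obtain ⟨α, β, t, u, γ, rfl⟩ := s.mem_QA.1 hq
  obtain ⟨p, q, e⟩ := b_conj s 1 α β t u γ τ
  have := mul_mem (conj_mem_of_norm (hn (s.letters_mem 1).2.1) hP) (inv_mem hP)
  rw [e, mul_inv_rev, mul_assoc, mul_inv_cancel_left, Lt.el_inv, Lt.el_mul] at this
  refine k _ this (s.el_mem _ _ _ _ _) fun ⟨δ, e⟩ => h ?_
  rw [(s.el_letters δ).2.2.2.2] at e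
  have := (s.el_inj e).2.2.1
  rw [em1] at this
  linear_combination this - t * F_two

theorem mem_X_of_two {u e : B} (hu : u ∈ s.U) (h : ∀ w ∈ s.QA, w * u * w⁻¹ = u ∨ w * u * w⁻¹ = u * e) :
    u ∈ s.X := by
  obtain ⟨q, hq, τ, rfl⟩ := s.mem_U.1 hu
  by_cases h0 : τ = 0
  · rw [h0, add_zero' s.x_add, mul_one] at h ⊢
    by_contra hX
    have k : ∀ δ, δ ≠ 0 → s.c δ = e := fun δ hδ => by
      obtain ⟨w, hw, e'⟩ := s.comm_onto hq hX δ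
      rw [← mul_right_inj q, ← e']
      exact (h w hw).resolve_left fun k => hδ (s.c_inj δ (by rwa [e', mul_eq_left] at k))
    exact ω_ne.2.1 (s.c_eq.1 ((k ω ω_ne.1).trans (k 1 one_ne_zero).symm))
  obtain ⟨α, β, t, u, γ, rfl⟩ := s.mem_QA.1 hq
  have k : ∀ v, v ≠ 0 → ∃ p q, s.el p β (t + τ * v) (u + τ ^ 2 * v) q * s.x τ = s.el α β t u γ * s.x τ * e :=
    fun v hv => by
      obtain ⟨p, q, e'⟩ := b_conj s v α β t u γ τ
      refine ⟨p, q, e' ▸ (h _ (s.letters_mem v).2.1).resolve_left fun k => ?_⟩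
      rw [e', mul_left_inj] at k
      simpa [em1, h0, hv] using (s.el_inj k).2.2.1
  obtain ⟨_, _, e1⟩ := k 1 one_ne_zero
  obtain ⟨_, _, e2⟩ := k ω ω_ne.1
  rw [← e1, mul_left_inj] at e2
  exact absurd (by simpa [em1, h0] using (s.el_inj e2).2.2.1) ω_ne.2.1

/-- An involution of `QA` is long or conjugate to a short root element. -/
theorem long_or_short {u : B} (hu : u ∈ s.QA) (h2 : u * u = 1) (h1 : u ≠ 1) :
    s.Long u ∨ ∃ n ∈ s.A, ∃ t, t ≠ 0 ∧ n * u * n⁻¹ = s.s2 t := by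
  have L := s.el_letters
  have xA := fun t => (s.mem t).2.2.2.2.2
  have wA := s.mem'.2.2.1
  have wi := inv_eq_of_mul_eq_one_right s.nn.2.2
  have k0 : ∀ t γ, t ≠ 0 → ∃ n ∈ s.A, n * s.el 0 0 0 t γ * n⁻¹ = s.s2 t := fun t γ h =>
    ⟨s.s1 (γ / t), (s.mem _).2.2.2.1, by
      rw [(L _).2.2.1, (L _).2.2.2.1, Lt.el_conj]
      simp [em1, div_mul_cancel₀ _ h, CharTwo.add_self_eq_zero]⟩
  have cj : ∀ {u v n : B}, n ∈ s.A → n * u * n⁻¹ = v → (∃ n ∈ s.A, ∃ t, t ≠ 0 ∧ n * v * n⁻¹ = s.s2 t) →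
      ∃ n ∈ s.A, ∃ t, t ≠ 0 ∧ n * u * n⁻¹ = s.s2 t := fun {u v n} hn e ⟨n', hn', t, ht, e'⟩ =>
    ⟨n' * n, mul_mem hn' hn, t, ht, by rw [← e', ← e]; group⟩
  have we : ∀ α β t u γ, ∃ δ, s.w * s.el α β t u γ * s.w⁻¹ = s.el β α u t δ := fun α β t u γ => by
    have W := (s.wact rfl).2.2
    have k : ∀ {y z}, s.w * y * s.w = z → s.w * z * s.w = y := fun e => by
      rw [← e, ← mul_assoc, ← mul_assoc, s.nn.2.2, one_mul, mul_assoc, s.nn.2.2, mul_one]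
    rw [Lt.el, ← conj_mul, ← conj_mul, ← conj_mul, ← conj_mul, ← (s.cc _ 0).2.2.2.2.2.eq, mul_inv_cancel_right,
      wi, (W _).1, k (W _).1, (W _).2.1, k (W _).2.1]
    simp only [(L _).1, (L _).2.1, (L _).2.2.1, (L _).2.2.2.1, (L _).2.2.2.2, Lt.el_mul, add_zero, zero_add]
    exact ⟨_, rfl⟩
  have k2 : ∀ α t γ, t ≠ 0 → ∃ n ∈ s.A, ∃ t', t' ≠ 0 ∧ n * s.el α 0 0 t γ * n⁻¹ = s.s2 t' := fun α t γ h => by
    obtain ⟨δ, e⟩ := s.x_el rfl (α / t) α 0 0 t γ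
    simp only [mul_zero, add_zero, div_mul_cancel₀ _ h, CharTwo.add_self_eq_zero] at e
    obtain ⟨n, hn, e'⟩ := k0 t δ h
    exact cj (xA _) e ⟨n, hn, t, h, e'⟩
  have k1 : ∀ α t γ, t ≠ 0 → ∃ n ∈ s.A, ∃ t', t' ≠ 0 ∧ n * s.el α 0 t 0 γ * n⁻¹ = s.s2 t' := fun α t γ h => by
    obtain ⟨τ, hτ⟩ : ∃ τ, α + τ ^ 2 * t = 0 :=
      (by decide +kernel : ∀ α t : F, t ≠ 0 → ∃ τ, α + τ ^ 2 * t = 0) α t h
    obtain ⟨δ, e⟩ := s.x_el rfl τ α 0 t 0 γ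
    simp only [mul_zero, add_zero, hτ] at e
    obtain ⟨δ', e'⟩ := we 0 0 t 0 δ
    exact cj (xA _) e (cj wA e' (k2 0 t δ' h))
  obtain ⟨α, β, t, u, γ, rfl⟩ := s.mem_QA.1 hu
  have q := s.c_inj _ ((s.el_sq ..).symm.trans h2)
  simp only [em1, one_mul] at q
  by_cases hβ : β = 0
  · subst hβ
    rcases mul_eq_zero.1 (show u * t = 0 by simpa using q) with rfl | rfl
    · by_cases h : t = 0
      · rw [h, ← zero_add γ, ← Lt.el_c, ← (L _).1] at h1 ⊢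
        exact .inl (s.long_ac (.inl ⟨rfl, rfl, rfl⟩) h1)
      · exact .inr (k1 _ _ _ h)
    · by_cases h : u = 0
      · rw [h, ← zero_add γ, ← Lt.el_c, ← (L _).1] at h1 ⊢
        exact .inl (s.long_ac (.inl ⟨rfl, rfl, rfl⟩) h1)
      · exact .inr (k2 _ _ _ h)
  · obtain ⟨δ, e⟩ := s.x_el rfl (t / β) α β t u γ
    have z : ∀ α β t u : F, β ≠ 0 → β * α + u * t = 0 → α + (t / β) ^ 3 * β + (t / β) ^ 2 * t + t / β * u = 0 ∧
      t + t / β * β = 0 := by decide +kernel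
    rw [(z α β t u hβ q).1, (z α β t u hβ q).2] at e
    by_cases h : u + (t / β) ^ 2 * β = 0
    · refine .inl (.of_conj ?_ (le_normalizer (xA (t / β))))
      replace h1 := mt (conj_eq_one_iff (a := s.x (t / β))).1 h1
      rw [e, h, ← zero_add δ, ← Lt.el_c, ← (L _).2.1] at h1 ⊢
      exact s.long_ac (.inr ⟨rfl, rfl, rfl⟩) h1
    · obtain ⟨δ', e'⟩ := we 0 β 0 (u + (t / β) ^ 2 * β) δ
      exact .inr (cj (xA _) e (cj wA e' (k1 _ _ _ h)))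

/-- An outer involution moves `a(F) X / X`. -/
theorem outer {t : B} (hN : ∀ b, b ∈ s.N) (h2 : t * t = 1) (h : t ∉ s.A ⊔ s.K) : ∃ n γ δ α α' ε, δ ≠ 0 ∧ α ≠ α' ∧
    n * t * n⁻¹ * s.c γ * (n * t * n⁻¹)⁻¹ = s.c (γ + δ) ∧
      n * t * n⁻¹ * s.a α * (n * t * n⁻¹)⁻¹ = s.a α' * s.c ε := by
  obtain ⟨S, h1, hS⟩ := Syl.exists_ge s.syl.pg (le_top : s.U ≤ ⊤)
  obtain ⟨n, -, hn⟩ := hS.conj_le (P1A.pg_zpowers ⟨1, by rwa [pow_one, sq]⟩) le_top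
  obtain ⟨δ, hδ, k⟩ := s.cenQ hS.pg (fun b _ => hN b) (le_sup_left.trans h1)
  replace hn := hn (conj_mem_cj (mem_zpowers t))
  rw [← s.cj_AK (hN n)] at h
  refine ⟨n, ?_⟩
  generalize n * t * n⁻¹ = t at h hn
  have hX := mt (Std.k5' (hN t)) h
  obtain ⟨nX, nQ⟩ := s.normX (hN t) hδ (k t hn)
  have a1 : ∀ α, ∃ α' ε, t * s.a α * t⁻¹ = s.a α' * s.c ε := fun α => by
    obtain ⟨α', β, p, q, γ, e⟩ := s.mem_QA.1 (conj_mem_of_norm nQ (s.letters_mem α).1)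
    have k : ∀ τ : F, τ * β = 0 ∧ τ ^ 3 * β + τ ^ 2 * p + τ * q = 0 := fun τ => by
      have xU : s.x τ ∈ s.U := mem_sup_right ⟨τ, rfl⟩
      obtain ⟨u, hu, σ, e1⟩ := s.mem_U.1 ((sylA s).ge_of_le (P := S ⊓ s.A) hS.pg.to_inf_left
        (le_inf h1 (sylA s).le) inf_le_right ⟨S.mul_mem (S.mul_mem (S.inv_mem hn) (h1 xU)) hn,
          conj_mem_of_norm' (hN t) (s.mem τ).2.2.2.2.2⟩)
      obtain ⟨ε, e2⟩ := s.comm_X (s.letters_mem α).1 hu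
      obtain ⟨ε', e3⟩ := conj_mem_of_norm nX (⟨ε, rfl⟩ : s.c ε ∈ s.X)
      obtain ⟨η, e4⟩ := s.x_el rfl τ α' β p q γ
      have : s.x τ * (t * s.a α * t⁻¹) * (s.x τ)⁻¹ = t * s.a α * t⁻¹ * s.c ε' := by
        rw [← e3, conj_mul, ← e2, ← mul_inv_cancel_right (s.a α) (s.x σ), (s.com α σ).2.2.2.2.eq,
          show u * (s.x σ * s.a α * (s.x σ)⁻¹) * u⁻¹ = u * s.x σ * s.a α * (u * s.x σ)⁻¹ by group, ← e1,
          ← (s.com α σ).2.2.2.2.eq]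
        group
      rw [e, e4, Lt.el_c] at this
      obtain ⟨i1, -, i2, -⟩ := s.el_inj this
      exact ⟨by simpa [em1] using i2, by linear_combination i1⟩
    have z : ∀ β p q : F, (∀ τ : F, τ * β = 0 ∧ τ ^ 3 * β + τ ^ 2 * p + τ * q = 0) → β = 0 ∧ p = 0 ∧ q = 0 := by
      decide +kernel
    obtain ⟨rfl, rfl, rfl⟩ := z β p q k
    exact ⟨α', γ, by rw [e, (s.el_letters _).1, Lt.el_c, zero_add]⟩
  have z : ω * δ ≠ 0 ∧ ω * δ ≠ δ := (by decide +kernel : ∀ δ : F, δ ≠ 0 → ω * δ ≠ 0 ∧ ω * δ ≠ δ) δ hδ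
  by_contra! hc
  replace hc := fun α α' ε e => by_contra fun k' =>
    hc _ δ α α' ε hδ k' (s.mov (hN t) hδ (k t hn) hX z.1 z.2) e
  obtain ⟨p, β, q, r, γ, e⟩ := s.mem_QA.1 (conj_mem_of_norm nQ (s.letters_mem 1).2.1)
  have c1 : ∀ α, t * s.c α * t⁻¹ = s.c (α * β) := fun α => by
    obtain ⟨α', ε, e'⟩ := a1 α
    obtain rfl := hc _ _ _ e'
    have := congrArg (MulAut.conj t) (s.ab α 1)
    simp only [map_mul, MulAut.conj_apply, e, e', mul_one] at this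
    obtain ⟨η, e3⟩ := conj_mem_of_norm nX (⟨α, rfl⟩ : s.c α ∈ s.X)
    simp only [e3, (s.el_letters _).1, Lt.el_c, Lt.el_mul, add_comm α] at this
    rw [e3, s.c_eq]
    linear_combination -(s.el_inj this).2.2.2.2 - α * β * F_two
  have := c1 δ
  rw [(k t hn).eq, mul_inv_cancel_right, s.c_eq, left_eq_mul₀ hδ] at this
  exact hX (s.mem_cX.2 fun α => (mul_inv_eq_iff_eq_mul.1 (by rw [c1, this, mul_one]) : Commute t _).symm)

end Letters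

end Cfsg.Agent.STP
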