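import Mathlib
import Cfsg.Agent.STP.G2EA
import Cfsg.Agent.Ch.CentralExt

/-! The double cover of `G₂(4)`: lifts of letters. -/

set_option autoImplicit false
set_option linter.unusedSectionVars false

namespace Cfsg.Agent.STP

open Cfsg Cfsg.Agent.Loc.Mss Subgroup Cfsg.Agent.STA Cfsg.Agent.STA.P1A

/-- `A` is a perfect double cover of `s.A`, and `N = C(z)` acts on it through `ρ`. -/
structure Cv (G B : Type*) [Group G] [Group B] where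
  s : Std true B
  A : Subgroup G
  N : Subgroup G
  z : G
  ρ : G → B
  zz : z * z = 1
  z1 : z ≠ 1
  zA : z ∈ A
  memN : ∀ n, n ∈ N ↔ Commute n z
  AN : A ≤ N
  norm : N ≤ 𝐍[A]
  top : ∀ b, b ∈ s.N
  mul : ∀ x ∈ N, ∀ y ∈ N, ρ (x * y) = ρ x * ρ y
  mem : ∀ a ∈ A, ρ a ∈ s.A
  surj : ∀ b ∈ s.A, ∃ a ∈ A, ρ a = b
  surjN : ∀ b, ∃ n ∈ N, ∀ y, b * y * b⁻¹ = ρ n * y * (ρ n)⁻¹
  ρz : ρ z = 1
  ker : ∀ n ∈ N, ρ n = 1 → n = 1 ∨ n = z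
  kerK : ∀ n ∈ N, ρ n ∈ s.K → n ∈ 𝐂[A]
  perf : commutator A = ⊤
  ti : ∀ k ∈ 𝐂[A], k * k = 1 → k ≠ 1 → ∀ n, n * k * n⁻¹ ∈ 𝐂[A] → n ∈ N

namespace Cv

variable {G B : Type*} [Group G] [Finite G] [Group B] [Finite B] (f : Cv G B)

theorem one : f.ρ 1 = 1 := mul_left_cancel (a := f.ρ 1) (by rw [← f.mul _ (one_mem _) _ (one_mem _)]; simp)
theorem inv {x : G} (h : x ∈ f.N) : f.ρ x⁻¹ = (f.ρ x)⁻¹ :=
  eq_inv_of_mul_eq_one_left (by rw [← f.mul _ (inv_mem h) _ h, inv_mul_cancel, f.one])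
theorem conj {n x : G} (hn : n ∈ f.N) (h : x ∈ f.N) : f.ρ (n * x * n⁻¹) = f.ρ n * f.ρ x * (f.ρ n)⁻¹ := by
  rw [f.mul _ (mul_mem hn h) _ (inv_mem hn), f.mul _ hn _ h, f.inv hn]
theorem pow {x : G} (h : x ∈ f.N) (i : ℕ) : f.ρ (x ^ i) = f.ρ x ^ i := by
  induction i with
  | zero => simp [f.one]
  | succ i ih => rw [pow_succ, f.mul _ (pow_mem h i) _ h, ih, pow_succ]
theorem cz {x : G} (h : x ∈ f.N) : Commute x f.z := (f.memN x).1 h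
theorem zN : f.z ∈ f.N := f.AN f.zA
theorem eq {x y : G} (hx : x ∈ f.N) (hy : y ∈ f.N) (h : f.ρ x = f.ρ y) : x = y ∨ x = y * f.z :=
  (f.ker _ (mul_mem (inv_mem hy) hx) (by rw [f.mul _ (inv_mem hy) _ hx, f.inv hy, h, inv_mul_cancel])).imp
    (fun e => (inv_mul_eq_one.1 e).symm) fun e => inv_mul_eq_iff_eq_mul.1 e
theorem sq_eq {x y : G} (hx : x ∈ f.N) (hy : y ∈ f.N) (h : f.ρ x = f.ρ y) : x * x = y * y := by
  rcases f.eq hx hy h with rfl | rfl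
  · rfl
  · rw [mul_assoc, ← mul_assoc f.z, ← (f.cz hy).eq, mul_assoc, f.zz, mul_one]

/-- The image of a subgroup of `N`. -/
def im (P : Subgroup G) : Subgroup B where
  carrier := {b | ∃ p ∈ P, p ∈ f.N ∧ f.ρ p = b}
  one_mem' := ⟨1, one_mem _, one_mem _, f.one⟩
  mul_mem' := by
    rintro _ _ ⟨p, h1, h2, rfl⟩ ⟨q, k1, k2, rfl⟩
    exact ⟨_, mul_mem h1 k1, mul_mem h2 k2, f.mul _ h2 _ k2⟩
  inv_mem' := by
    rintro _ ⟨p, h1, h2, rfl⟩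
    exact ⟨_, inv_mem h1, inv_mem h2, f.inv h2⟩

/-- The preimage in `N`. -/
def pre (P : Subgroup B) : Subgroup G where
  carrier := {p | p ∈ f.N ∧ f.ρ p ∈ P}
  one_mem' := ⟨one_mem _, f.one ▸ one_mem _⟩
  mul_mem' := fun h k => ⟨mul_mem h.1 k.1, f.mul _ h.1 _ k.1 ▸ mul_mem h.2 k.2⟩
  inv_mem' := fun h => ⟨inv_mem h.1, f.inv h.1 ▸ inv_mem h.2⟩

theorem pg_im {P : Subgroup G} (h : IsPGroup 2 P) : IsPGroup 2 (f.im P) := pg_iff.2 (by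
  rintro _ ⟨p, h1, h2, rfl⟩
  exact (pg_iff.1 h p h1).imp fun j e => by rw [← f.pow h2, e, f.one])

theorem pg_pre {P : Subgroup B} (h : IsPGroup 2 P) : IsPGroup 2 (f.pre P) := pg_iff.2 fun p hp => by
  obtain ⟨j, e⟩ := pg_iff.1 h _ hp.2
  refine ⟨j + 1, ?_⟩
  rw [pow_succ, pow_mul, pow_two, f.sq_eq (pow_mem hp.1 _) (one_mem _) (by rw [f.pow hp.1, e, f.one]), one_mul]

theorem memA {x : G} (hx : x ∈ f.N) (h : f.ρ x ∈ f.s.A) : x ∈ f.A := by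
  obtain ⟨a, ha, e⟩ := f.surj _ h
  rcases f.eq hx (f.AN ha) e.symm with rfl | rfl
  exacts [ha, mul_mem ha f.zA]

theorem exists_lift {b : B} (h : b ∈ f.s.A) : ∃ a ∈ f.N, f.ρ a = b :=
  have ⟨a, ha, e⟩ := f.surj b h
  ⟨a, f.AN ha, e⟩

/-- The elements whose lifts commute with `x`. -/
def cx (x : G) : Subgroup B := f.im 𝐂[zpowers x]

theorem comm {x a : G} (hx : x ∈ f.N) (ha : a ∈ f.N) (h : f.ρ a ∈ f.cx x) : Commute a x := by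
  obtain ⟨p, h1, h2, e⟩ := h
  have c : Commute p x := (h1 x (mem_zpowers x)).symm
  rcases f.eq ha h2 e.symm with rfl | rfl
  exacts [c, c.mul_left (f.cz hx).symm]

theorem sq_cx {x : G} (hx : x ∈ f.N) : ∀ b ∈ f.s.A ⊓ 𝐂[zpowers (f.ρ x)], b * b ∈ f.cx x := fun b hb => by
  obtain ⟨a, ha, rfl⟩ := f.exists_lift hb.1
  have := f.sq_eq (mul_mem (mul_mem hx ha) (inv_mem hx)) ha (by
    rw [f.conj hx ha, hb.2 _ (mem_zpowers _), mul_inv_cancel_right])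
  rw [conj_mul, mul_inv_eq_iff_eq_mul] at this
  refine ⟨_, ?_, mul_mem ha ha, f.mul _ ha _ ha⟩
  rintro _ ⟨i, rfl⟩
  exact (Commute.zpow_left this i).eq

theorem mem_c {y b : B} (hb : b ∈ f.s.A) (h : Commute b y) : b ∈ f.s.A ⊓ 𝐂[zpowers y] :=
  ⟨hb, by rintro _ ⟨i, rfl⟩; exact (h.symm.zpow_left i).eq⟩

theorem comm_cx {x : G} (hx : x ∈ f.N) {b b' : B} (hb : b ∈ f.s.A) (hb' : b' ∈ f.s.A) (h : Commute b (f.ρ x))
    (h' : Commute b' (f.ρ x)) : b * b' * b⁻¹ * b'⁻¹ ∈ f.cx x :=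
  comm_of_sq (f.sq_cx hx) (f.mem_c hb h) (f.mem_c hb' h')

theorem three_cx {x : G} (hx : x ∈ f.N) {b : B} (hb : b ∈ f.s.A) (h : Commute b (f.ρ x)) (h3 : b ^ 3 = 1) :
    b ∈ f.cx x := by
  have := f.sq_cx hx b (f.mem_c hb h)
  rwa [← pow_two, eq_inv_of_mul_eq_one_left ((pow_succ _ 2).symm.trans h3), inv_mem_iff] at this

theorem D_comm {x a : G} (hx : x ∈ f.N) (h : ∀ d ∈ f.s.D, Commute d (f.ρ x)) (ha : a ∈ f.N) (hD : f.ρ a ∈ f.s.D) :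
    Commute a x :=
  f.comm hx ha (D_le_sq f.s (fun d hd => f.sq_cx hx d (f.mem_c (f.s.D_le_A hd) (h d hd))) hD)

theorem X_comm {x a : G} (hx : x ∈ f.N) (h : f.ρ x ∈ f.s.X) (ha : a ∈ f.N) (hD : f.ρ a ∈ f.s.D) :
    Commute a x := f.D_comm hx (fun _ hd => (f.s.D_le_cent hd _ h).symm) ha hD

theorem X_le_D : f.s.X ≤ f.s.D := f.s.X_le_QA.trans f.s.QA_le_D

theorem X_sq {x : G} (hx : x ∈ f.N) (h : f.ρ x ∈ f.s.X) : x * x = 1 := by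
  obtain ⟨n, hn, e⟩ := f.exists_lift f.s.mem'.2.2.2.1
  have N : ∀ {y}, y ∈ f.N → n * y * n⁻¹ ∈ f.N := fun h => mul_mem (mul_mem hn h) (inv_mem hn)
  obtain ⟨t, h⟩ := h
  have e1 : f.ρ (n * x * n⁻¹) = f.s.c (ω ^ 2 * t) := by rw [f.conj hn hx, e, h, (f.s.hact _).2.2.1]
  have e2 : f.ρ (n * (n * x * n⁻¹) * n⁻¹) = f.ρ (x * (n * x * n⁻¹)) := by
    rw [f.conj hn (N hx), f.mul _ hx _ (N hx), e1, e, h, (f.s.hact _).2.2.1, ← f.s.c_add, f.s.c_eq]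
    exact (by decide +kernel : ∀ t : F, ω ^ 2 * (ω ^ 2 * t) = t + ω ^ 2 * t) t
  have e3 := f.sq_eq (N (N hx)) (mul_mem hx (N hx)) e2
  have c := f.X_comm hx ⟨t, h⟩ (N hx) (f.X_le_D ⟨_, e1⟩)
  rw [conj_mul, conj_mul, mul_assoc x, ← mul_assoc (n * x * n⁻¹), c.eq, mul_assoc x, conj_mul] at e3
  rcases f.ker _ (mul_mem hx hx) (by rw [f.mul _ hx _ hx, h, add_sq f.s.c_add]) with k | k
  · exact k
  · have hz : n * f.z * n⁻¹ = f.z := by rw [(f.cz hn).eq, mul_inv_cancel_right]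
    rw [k, hz, hz, ← mul_assoc, k, f.zz] at e3
    exact absurd e3 f.z1

theorem sq_of_conj {x : G} (hx : x ∈ f.N) {b : B} (hb : b ∈ f.s.A) {y : B} (e : b * f.ρ x * b⁻¹ = y)
    (h : ∀ x ∈ f.N, f.ρ x = y → x * x = 1) : x * x = 1 := by
  obtain ⟨n, hn, rfl⟩ := f.exists_lift hb
  have := h _ (mul_mem (mul_mem hn hx) (inv_mem hn)) ((f.conj hn hx).trans e)
  rwa [conj_mul, conj_eq_one_iff] at this

theorem ab_sq {x : G} (hx : x ∈ f.N) {t : F} (h : f.ρ x = f.s.a t ∨ f.ρ x = f.s.b t) : x * x = 1 := by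
  rcases h with h | h
  · exact f.sq_of_conj hx f.s.mem'.1 (by rw [h, inv_eq_of_mul_eq_one_right f.s.nn.1, (f.s.nact t).1])
      fun y hy e => f.X_sq hy ⟨t, e⟩
  · exact f.sq_of_conj hx f.s.mem'.2.1 (by rw [h, inv_eq_of_mul_eq_one_right f.s.nn.2.1, (f.s.nact t).2])
      fun y hy e => f.X_sq hy ⟨t, e⟩

theorem ab_s {x y : G} (hx : x ∈ f.N) (hy : y ∈ f.N) {t u : F} (h : f.ρ x = f.s.a t ∨ f.ρ x = f.s.b t)
    (h' : f.ρ y = f.s.s1 u ∨ f.ρ y = f.s.s2 u) : Commute y x := by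
  have ξA := f.s.mem'.2.2.2.2
  have c : Commute f.s.ξ (f.ρ x) := by
    rcases h with h | h <;> rw [h]
    exacts [(f.s.ξcom.2.2.2 t).1, (f.s.ξcom.2.2.2 t).2.1]
  refine f.comm hx hy ?_
  rcases h' with h' | h' <;> rw [h']
  · refine (ξ_comm f.s u).1 ▸ f.comm_cx hx ξA (f.s.mem _).2.2.2.1 c ?_
    rcases h with h | h <;> rw [h]
    exacts [(f.s.com _ _).1.symm, (f.s.com _ _).2.2.1.symm]
  · refine (ξ_comm f.s u).2.1 ▸ f.comm_cx hx ξA (f.s.mem _).2.2.2.2.1 c ?_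
    rcases h with h | h <;> rw [h]
    exacts [(f.s.com _ _).2.1.symm, (f.s.com _ _).2.2.2.1.symm]

theorem a_ax {x y : G} (hx : x ∈ f.N) (hy : y ∈ f.N) {t u : F} (h : f.ρ x = f.s.a t)
    (h' : f.ρ y = f.s.a u ∨ f.ρ y = f.s.x u) : Commute y x := by
  refine f.comm hx hy ?_
  rcases h' with h' | h' <;> rw [h']
  · exact a_comm f.s u ▸ f.comm_cx hx (f.s.mem _).2.2.2.2.2 (f.s.mem _).2.2.2.2.1
      (h ▸ (f.s.com _ _).2.2.2.2.symm) (h ▸ (f.s.com _ _).2.1.symm)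
  · exact (ξ_comm f.s u).2.2 ▸ f.comm_cx hx f.s.mem'.2.2.2.2 (f.s.mem _).2.2.2.2.2
      (h ▸ (f.s.ξcom.2.2.2 t).1) (h ▸ (f.s.com _ _).2.2.2.2.symm)

open Classical in
/-- A lift. -/
noncomputable def lf (b : B) : G := if h : ∃ a ∈ f.N, f.ρ a = b then h.choose else 1

theorem lf_spec {b : B} (h : b ∈ f.s.A) : f.lf b ∈ f.N ∧ f.ρ (f.lf b) = b := by
  rw [lf, dif_pos (f.exists_lift h)]
  exact (f.exists_lift h).choose_spec

/-- The square of a lift. -/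
noncomputable def sq (b : B) : G := f.lf b * f.lf b

theorem sq_lift {x : G} (hx : x ∈ f.N) {b : B} (hb : b ∈ f.s.A) (e : f.ρ x = b) : x * x = f.sq b :=
  f.sq_eq hx (f.lf_spec hb).1 (e.trans (f.lf_spec hb).2.symm)

theorem el_A (α β t u γ : F) : f.s.el α β t u γ ∈ f.s.A := f.s.D_le_A (f.s.QA_le_D (f.s.el_mem _ _ _ _ _))

theorem sq_spec {b : B} (hb : b ∈ f.s.A) : f.sq b ∈ f.N ∧ f.ρ (f.sq b) = b * b :=
  have h := f.lf_spec hb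
  ⟨mul_mem h.1 h.1, by rw [sq, f.mul _ h.1 _ h.1, h.2]⟩

theorem sq_conj {n : G} (hn : n ∈ f.N) {b : B} (hb : b ∈ f.s.A) :
    f.sq (f.ρ n * b * (f.ρ n)⁻¹) = n * f.sq b * n⁻¹ := by
  have h := f.lf_spec hb
  rw [← f.sq_lift (mul_mem (mul_mem hn h.1) (inv_mem hn)) (conj_mem_of_norm (f.top _) hb)
    (by rw [f.conj hn h.1, h.2]), conj_mul, sq]

/-- The commutator of lifts of `a α` and `b β`. -/
noncomputable def κ (α β : F) : G := f.sq (f.s.el α β 0 0 0)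

theorem κ_spec (α β : F) : f.κ α β ∈ f.N ∧ f.ρ (f.κ α β) = f.s.c (α * β) :=
  ⟨(f.sq_spec (f.el_A ..)).1, by rw [κ, (f.sq_spec (f.el_A ..)).2, Lt.el_sq]; simp [mul_comm]⟩

theorem sq_el (α β t u γ : F) : f.sq (f.s.el α β t u γ) = f.κ α β * f.sq (f.s.el 0 0 t u 0) := by
  have M := f.s.mem
  obtain ⟨a, ha, ea⟩ := f.exists_lift (M α).1
  obtain ⟨b, hb, eb⟩ := f.exists_lift (M β).2.1
  obtain ⟨c, hc, ec⟩ := f.exists_lift (M γ).2.2.1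
  obtain ⟨p, hp, ep⟩ := f.exists_lift (M t).2.2.2.1
  obtain ⟨q, hq, eq⟩ := f.exists_lift (M u).2.2.2.2.1
  have e1 : f.ρ (a * b) = f.s.el α β 0 0 0 := by
    rw [f.mul _ ha _ hb, ea, eb, (f.s.el_letters _).1, (f.s.el_letters _).2.1, Lt.el_mul]; simp
  have e2 : f.ρ (p * q) = f.s.el 0 0 t u 0 := by
    rw [f.mul _ hp _ hq, ep, eq, (f.s.el_letters _).2.2.1, (f.s.el_letters _).2.2.2.1, Lt.el_mul]; simp
  have m := mul_mem (mul_mem ha hb) (mul_mem hp hq)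
  have e3 : f.ρ (a * b * (p * q)) = f.s.el α β t u 0 := by
    rw [f.mul _ (mul_mem ha hb) _ (mul_mem hp hq), e1, e2, Lt.el_mul]; simp
  have c1 : Commute (a * b) (p * q) :=
    ((f.ab_s ha hp (.inl ea) (.inl ep)).symm.mul_left (f.ab_s hb hp (.inr eb) (.inl ep)).symm).mul_right
      ((f.ab_s ha hq (.inl ea) (.inr eq)).symm.mul_left (f.ab_s hb hq (.inr eb) (.inr eq)).symm)
  have c2 := f.X_comm hc ⟨γ, ec⟩ m (e3 ▸ f.s.QA_le_D (f.s.el_mem _ _ _ _ _))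
  rw [← f.sq_lift (mul_mem m hc) (f.el_A ..) (by rw [f.mul _ m _ hc, e3, ec, Lt.el_c, zero_add]), κ,
    ← f.sq_lift (mul_mem ha hb) (f.el_A ..) e1, ← f.sq_lift (mul_mem hp hq) (f.el_A ..) e2, ← pow_two, c2.mul_pow,
    c1.mul_pow, pow_two c, f.X_sq hc ⟨γ, ec⟩, mul_one, pow_two, pow_two]

theorem κ_eq {a b : G} (ha : a ∈ f.N) (hb : b ∈ f.N) {α β : F} (ea : f.ρ a = f.s.a α) (eb : f.ρ b = f.s.b β) :
    b * a * b⁻¹ = a * f.κ α β := by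
  rw [κ, ← f.sq_lift (mul_mem ha hb) (f.el_A ..) (by
    rw [f.mul _ ha _ hb, ea, eb, (f.s.el_letters _).1, (f.s.el_letters _).2.1, Lt.el_mul]; simp),
    inv_eq_of_mul_eq_one_right (f.ab_sq hb (.inr eb)), ← mul_assoc a, ← mul_assoc a, f.ab_sq ha (.inl ea), one_mul,
    mul_assoc]

theorem κ_add (α α' β : F) : f.κ (α + α') β = f.κ α β * f.κ α' β := by
  obtain ⟨a, ha, ea⟩ := f.exists_lift (f.s.mem α).1
  obtain ⟨a', ha', ea'⟩ := f.exists_lift (f.s.mem α').1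
  obtain ⟨b, hb, eb⟩ := f.exists_lift (f.s.mem β).2.1
  have := f.κ_eq (mul_mem ha ha') hb (by rw [f.mul _ ha _ ha', ea, ea', f.s.a_add]) eb
  rw [← conj_mul, f.κ_eq ha hb ea eb, f.κ_eq ha' hb ea' eb, mul_assoc, mul_assoc, mul_right_inj, ← mul_assoc,
    ← (f.X_comm (f.κ_spec α β).1 ⟨_, (f.κ_spec α β).2⟩ ha' (ea' ▸ f.s.QA_le_D (f.s.letters_mem _).1)).eq,
    mul_assoc, mul_right_inj] at this
  exact this.symm

theorem κ_h {n : G} (hn : n ∈ f.N) (e : f.ρ n = f.s.h) (α β : F) : f.κ (ω * α) (ω * β) = n * f.κ α β * n⁻¹ := by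
  rw [κ, κ, ← f.sq_conj hn (f.el_A ..), e, Lt.h_el]
  simp

theorem κ_zero (t : F) : f.κ t 0 = 1 ∧ f.κ 0 t = 1 :=
  ⟨f.ab_sq (f.lf_spec (f.el_A ..)).1 (.inl ((f.lf_spec (f.el_A ..)).2.trans (f.s.el_letters t).1.symm)),
    f.ab_sq (f.lf_spec (f.el_A ..)).1 (.inr ((f.lf_spec (f.el_A ..)).2.trans (f.s.el_letters t).2.1.symm))⟩

theorem sylU : Syl 2 (f.pre f.s.U) f.A :=
  Syl.of_maximal (f.pg_pre f.s.syl.pg) (fun _ h => f.memA h.1 ((sylA f.s).le h.2)) fun P hP h1 h2 p hp =>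
    ⟨f.AN (h2 hp), (sylA f.s).ge_of_le (f.pg_im hP) (fun u hu =>
      have ⟨a, ha, e⟩ := f.exists_lift ((sylA f.s).le hu)
      ⟨a, h1 ⟨ha, e ▸ hu⟩, ha, e⟩) (by rintro _ ⟨q, hq, -, rfl⟩; exact f.mem _ (h2 hq)) ⟨p, hp, f.AN (h2 hp), rfl⟩⟩

theorem z_mem {P : Subgroup G} (h : ∀ y ∈ f.pre f.s.U, y * y ∈ P) : f.z ∈ P := by
  have h1 := Ch.pow_index_mem_commutator ((f.pre f.s.U).subgroupOf f.A) (z := ⟨f.z, f.zA⟩)
    (mem_center_iff.2 fun a => Subtype.ext (f.cz (f.AN a.2))) (f.perf ▸ mem_top _)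
  obtain ⟨k, hk⟩ : Odd ((f.pre f.s.U).subgroupOf f.A).index := Nat.odd_iff.2 (Nat.two_dvd_ne_zero.1 f.sylU.nd)
  have h2 := (commutator_le.2 fun p hp q hq => comm_of_sq h hp hq : _ ≤ P.subgroupOf f.A) h1
  rwa [mem_subgroupOf, hk, coe_pow, pow_succ, pow_mul, pow_two, f.zz, one_pow, one_mul] at h2

theorem not_split : ¬ ∀ α β, f.κ (ω * α) (ω ^ 2 * β) = f.κ α β := fun H => by
  have L := f.s.el_letters
  have k1 : ∀ α β, f.κ α β = f.κ (α * β) 1 := fun α β => by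
    have h2 : ∀ α, f.κ α (ω ^ 2) = f.κ (α * ω ^ 2) 1 := fun α => by
      rw [← H _ 1, mul_one, show ω * (α * ω ^ 2) = α by linear_combination α * ω_cube]
    rcases F_cases β with rfl | rfl | rfl | rfl
    · rw [mul_zero, (f.κ_zero _).1, (f.κ_zero _).2]
    · rw [mul_one]
    · have := H (α * ω ^ 2) (ω ^ 2)
      rwa [h2, show ω * (α * ω ^ 2) = α by linear_combination α * ω_cube,
        show ω ^ 2 * ω ^ 2 = ω by decide +kernel, show α * ω ^ 2 * ω ^ 2 = α * ω by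
          linear_combination α * ω * ω_cube] at this
    · exact h2 α
  let X0 := rg (fun γ => f.κ γ 1) fun s t => f.κ_add s t 1
  have xl : ∀ τ α β t u, ∃ n, f.κ (α + τ ^ 3 * β + τ ^ 2 * t + τ * u) β *
      f.sq (f.s.el 0 0 (t + τ * β) (u + τ ^ 2 * β) 0) = n * (f.κ α β * f.sq (f.s.el 0 0 t u 0)) * n⁻¹ :=
    fun τ α β t u => by
      obtain ⟨n, hn, e⟩ := f.exists_lift (f.s.mem τ).2.2.2.2.2
      obtain ⟨δ, e'⟩ := f.s.x_el rfl τ α β t u 0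
      exact ⟨n, by rw [← f.sq_el _ _ _ _ δ, ← e', ← e, f.sq_conj hn (f.el_A ..), f.sq_el]⟩
  have s0 : f.sq (f.s.el 0 0 0 0 0) = 1 := (f.κ_zero 0).1
  have k3 : ∀ τ β, f.sq (f.s.el 0 0 (τ * β) (τ ^ 2 * β) 0) = (f.κ (τ ^ 3 * β * β) 1)⁻¹ := fun τ β => by
    obtain ⟨n, e⟩ := xl τ 0 β 0 0
    simp only [zero_add, mul_zero, add_zero, (f.κ_zero _).2, s0, mul_one, mul_inv_cancel] at e
    rw [← k1, eq_inv_of_mul_eq_one_right e]
  have k4 : ∀ u, f.sq (f.s.s2 u) = 1 := by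
    have h1 : f.sq (f.s.s2 ω) = 1 := by
      obtain ⟨n, e⟩ := xl 1 0 1 0 ω
      have := k3 (ω ^ 2) ω
      rw [show ω ^ 2 * ω = 0 + 1 * 1 by decide +kernel, show (ω ^ 2) ^ 2 * ω = ω + 1 ^ 2 * 1 by decide +kernel,
        show (ω ^ 2) ^ 3 * ω * ω = 0 + 1 ^ 3 * 1 + 1 ^ 2 * 0 + 1 * ω by decide +kernel] at this
      rwa [this, mul_inv_cancel, (f.κ_zero _).2, one_mul, eq_comm, conj_eq_one_iff, ← (L _).2.2.2.1] at e
    obtain ⟨n, hn, e⟩ := f.exists_lift f.s.mem'.2.2.2.1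
    have h2 : ∀ u, f.sq (f.s.s2 u) = 1 → f.sq (f.s.s2 (ω * u)) = 1 := fun u h => by
      rw [← (f.s.hact u).2.2.2.2, ← e, f.sq_conj hn (f.s.mem _).2.2.2.2.1, h, mul_one, mul_inv_cancel]
    intro u
    rcases F_cases u with rfl | rfl | rfl | rfl
    · rw [(L _).2.2.2.1, s0]
    · exact (show ω * (ω * ω) = 1 by decide +kernel) ▸ h2 _ (h2 _ h1)
    · exact h1
    · exact pow_two ω ▸ h2 _ h1
  have lv : ∀ {x : G} {b}, b ∈ f.s.A → f.sq b = 1 → x ∈ f.N → f.ρ x = b → x * x = 1 := fun hb h hx e =>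
    (f.sq_lift hx hb e).trans h
  have k5 : ∀ t, f.sq (f.s.s1 t) = 1 := fun t =>
    have h := f.lf_spec (f.s.mem t).2.2.2.1
    f.sq_of_conj h.1 f.s.mem'.2.2.1 (by rw [h.2, inv_eq_of_mul_eq_one_right f.s.nn.2.2,
      ((f.s.wact rfl).2.2 t).2.1]) fun _ hy e => lv (f.s.mem t).2.2.2.2.1 (k4 t) hy e
  have k6 : ∀ y ∈ f.pre f.s.QA, y * y ∈ X0 := fun y hy => by
    obtain ⟨α, β, t, u, γ, e⟩ := f.s.mem_QA.1 hy.2
    rw [f.sq_lift hy.1 (f.el_A ..) e, f.sq_el]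
    refine mul_mem ⟨_, k1 α β⟩ ?_
    rcases (by decide +kernel : ∀ t u : F, t = 0 ∨ u = 0 ∨ ∃ τ β, t = τ * β ∧ u = τ ^ 2 * β) t u with
      rfl | rfl | ⟨τ, β, rfl, rfl⟩
    · rw [← (L _).2.2.2.1, k4]; exact one_mem _
    · rw [← (L _).2.2.1, k5]; exact one_mem _
    · rw [k3]; exact inv_mem ⟨_, rfl⟩
  have k7 : ∀ e ∈ X0, ∀ y ∈ f.N, f.ρ y ∈ f.s.D → Commute y e := by
    rintro _ ⟨γ, rfl⟩ y hy h
    exact f.X_comm (f.κ_spec ..).1 ⟨_, (f.κ_spec ..).2⟩ hy h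
  obtain ⟨n, hn, en⟩ := f.exists_lift f.s.mem'.2.2.2.1
  have nQ : ∀ y ∈ f.pre f.s.QA, n * y * n⁻¹ ∈ f.pre f.s.QA := fun y hy =>
    ⟨mul_mem (mul_mem hn hy.1) (inv_mem hn), by
      rw [f.conj hn hy.1, en]; exact conj_mem_of_norm f.s.hξ_norm.1 hy.2⟩
  let Nm : G → G := fun y => y * (n * y * n⁻¹) * (n * (n * y * n⁻¹) * n⁻¹)
  have k8 : ∀ y ∈ f.pre f.s.QA, ∀ y' ∈ f.pre f.s.QA, ∃ e ∈ X0, Nm (y * y') = e * (Nm y * Nm y') := by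
    intro y hy y' hy'
    have h1 := comm_of_sq k6 hy' (nQ y hy)
    have h2 := comm_of_sq k6 (mul_mem hy' (nQ y' hy')) (nQ _ (nQ y hy))
    have m := mul_mem hy (nQ y hy)
    refine ⟨_, mul_mem h1 h2, ?_⟩
    have : Nm (y * y') = y * y' * ((n * y * n⁻¹) * (n * y' * n⁻¹)) *
        ((n * (n * y * n⁻¹) * n⁻¹) * (n * (n * y' * n⁻¹) * n⁻¹)) := by simp only [Nm]; group
    rw [this]
    simp only [Nm]
    generalize n * (n * y * n⁻¹) * n⁻¹ = Z, n * (n * y' * n⁻¹) * n⁻¹ = Z' at *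
    generalize n * y * n⁻¹ = Y, n * y' * n⁻¹ = Y' at *
    calc _ = y * (y' * Y * y'⁻¹ * Y⁻¹) * (Y * y' * Y' * Z * Z') := by group
      _ = y' * Y * y'⁻¹ * Y⁻¹ * (y * Y * (y' * Y' * Z * (y' * Y')⁻¹ * Z⁻¹)) * (Z * y' * Y' * Z') := by
        rw [(k7 _ h1 _ hy.1 (f.s.QA_le_D hy.2)).eq]; group
      _ = _ := by rw [(k7 _ h2 _ m.1 (f.s.QA_le_D m.2)).eq]; group
  let Q0 : Subgroup G :=
    { carrier := {y | y ∈ f.pre f.s.QA ∧ Nm y ∈ X0}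
      one_mem' := ⟨one_mem _, by simp [Nm]⟩
      mul_mem' := fun h k => ⟨mul_mem h.1 k.1, by
        obtain ⟨e, he, e'⟩ := k8 _ h.1 _ k.1
        exact e' ▸ mul_mem he (mul_mem h.2 k.2)⟩
      inv_mem' := fun {y} h => ⟨inv_mem h.1, by
        obtain ⟨e, he, e'⟩ := k8 _ h.1 _ (inv_mem h.1)
        rw [mul_inv_cancel, show Nm 1 = 1 by simp [Nm], ← mul_assoc] at e'
        exact (mul_mem_cancel_left (mul_mem he h.2)).1 (e' ▸ one_mem _)⟩ }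
  obtain ⟨γ, e⟩ := (f.z_mem (P := Q0) fun y hy => by
    obtain ⟨q, hq, τ, e⟩ := f.s.mem_U.1 hy.2
    obtain ⟨x, hx, ex⟩ := f.exists_lift (f.s.mem τ).2.2.2.2.2
    have xD := (f.s.letters_mem τ).2.2.2.2.2.1
    have x2 : x * x = 1 := f.sq_of_conj hx f.s.mem'.1 (by rw [ex, inv_eq_of_mul_eq_one_right f.s.nn.1,
      ((f.s.wact rfl).2.2 τ).2.2.1]) fun _ hy e => lv (f.s.mem τ).2.2.2.1 (k5 τ) hy e
    have c : Commute n x := f.comm hx hn (en ▸ f.three_cx hx f.s.mem'.2.2.2.1 (ex ▸ h_x f.s τ) f.s.h3)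
    have m : y * x⁻¹ ∈ f.pre f.s.QA := ⟨mul_mem hy.1 (inv_mem hx), by
      rwa [f.mul _ hy.1 _ (inv_mem hx), f.inv hx, e, ex, mul_inv_cancel_right]⟩
    have m' : x * (y * x⁻¹) * x⁻¹ ∈ f.pre f.s.QA := ⟨mul_mem (mul_mem hx m.1) (inv_mem hx), by
      rw [f.conj hx m.1, ex]; exact conj_mem_of_norm (f.s.D_le_norm xD) m.2⟩
    have e1 : y * y = y * x⁻¹ * (x * (y * x⁻¹) * x⁻¹) := by
      rw [mul_assoc x, mul_assoc y x⁻¹ x⁻¹, ← mul_inv_rev, x2]; group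
    rw [e1]
    generalize y * x⁻¹ = v at m m'
    obtain ⟨e, he, e'⟩ := k8 _ m _ m'
    have mN : Nm v ∈ f.pre f.s.QA := mul_mem (mul_mem m (nQ _ m)) (nQ _ (nQ _ m))
    have e2 : Nm (x * v * x⁻¹) = x * Nm v * x⁻¹ := by
      have : ∀ v, n * (x * v * x⁻¹) * n⁻¹ = x * (n * v * n⁻¹) * x⁻¹ := fun v => by
        rw [← mul_assoc, ← mul_assoc, c.eq, mul_assoc _ x⁻¹, ← c.inv_inv.eq]; group
      simp only [Nm, this, conj_mul]
    have e3 : f.ρ (Nm v) ∈ f.s.X := by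
      obtain ⟨α, β, t, u, γ, e⟩ := f.s.mem_QA.1 m.2
      have z : ∀ t : F, t + ω * t + ω * (ω * t) = 0 := by decide +kernel
      rw [f.mul _ (mul_mem m (nQ _ m)).1 _ (nQ _ (nQ _ m)).1, f.mul _ m.1 _ (nQ _ m).1, f.conj hn (nQ _ m).1,
        f.conj hn m.1, en, e, Lt.h_el, Lt.h_el, Lt.el_mul, Lt.el_mul, z, z, z, z]
      exact ⟨_, (L _).2.2.2.2.symm⟩
    refine ⟨mul_mem m m', ?_⟩
    rw [e', e2, (f.X_comm mN.1 e3 hx (ex ▸ xD)).eq, mul_inv_cancel_right]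
    exact mul_mem he (k6 _ mN)).2
  have hz : n * f.z * n⁻¹ = f.z := by rw [(f.cz hn).eq, mul_inv_cancel_right]
  simp only [Nm, hz, f.zz, one_mul] at e
  have := (f.κ_spec γ 1).2
  rw [← e, f.ρz, mul_one] at this
  rw [f.s.c_inj _ this.symm, (f.κ_zero _).2] at e
  exact f.z1 e

/-- Both lifts of a long root element of `X` are commutators. -/
theorem both {y : G} (hy : y ∈ f.N) {γ : F} (h0 : γ ≠ 0) (e : f.ρ y = f.s.c γ) : ∃ α β, f.κ α β = y := by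
  obtain ⟨n, hn, en⟩ := f.exists_lift f.s.mem'.2.2.2.1
  have step : ∀ γ, (∀ y ∈ f.N, f.ρ y = f.s.c γ → ∃ α β, f.κ α β = y) →
      ∀ y ∈ f.N, f.ρ y = f.s.c (ω ^ 2 * γ) → ∃ α β, f.κ α β = y := fun γ h y hy e => by
    obtain ⟨α, β, e'⟩ := h (n⁻¹ * y * n⁻¹⁻¹) (mul_mem (mul_mem (inv_mem hn) hy) (inv_mem (inv_mem hn))) (by
      rw [f.conj (inv_mem hn) hy, f.inv hn, e, en, ← (f.s.hact γ).2.2.1]; group)
    exact ⟨_, _, by rw [f.κ_h hn en, e']; group⟩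
  obtain ⟨α, β, h⟩ := by simpa only [not_forall] using f.not_split
  have h1 : α * β ≠ 0 := fun k => h (by
    rcases mul_eq_zero.1 k with rfl | rfl <;> simp [f.κ_zero])
  have base : ∀ y ∈ f.N, f.ρ y = f.s.c (α * β) → ∃ α β, f.κ α β = y := fun y hy e => by
    have p := f.κ_spec α β
    have q := f.κ_spec (ω * α) (ω ^ 2 * β)
    rw [show ω * α * (ω ^ 2 * β) = α * β by linear_combination α * β * ω_cube] at q
    rcases f.eq hy p.1 (e.trans p.2.symm) with k | k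
    · exact ⟨_, _, k.symm⟩
    · exact ⟨_, _, ((f.eq q.1 p.1 (q.2.trans p.2.symm)).resolve_left h).trans k.symm⟩
  rcases (by decide +kernel : ∀ γ δ : F, γ ≠ 0 → δ ≠ 0 → γ = δ ∨ γ = ω ^ 2 * δ ∨ γ = ω ^ 2 * (ω ^ 2 * δ))
    γ _ h0 h1 with rfl | rfl | rfl
  exacts [base y hy e, step _ base y hy e, step _ (step _ base) y hy e]

end Cv

end Cfsg.Agent.STP
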