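import Mathlib
import Cfsg.Agent.STP.G2EB
import Cfsg.Agent.GT.PGroupChain

/-! The double cover of `G₂(4)`: no conjugate of the central involution acts as a long root element. -/

set_option autoImplicit false
set_option linter.unusedSectionVars false

namespace Cfsg.Agent.STP

open Cfsg Cfsg.Agent.Loc.Mss Subgroup Cfsg.Agent.STA Cfsg.Agent.STA.P1A

variable {G B : Type*} [Group G] [Finite G] [Group B] [Finite B]

theorem proj (s : Std true B) (hN : ∀ b, b ∈ s.N) {H : Type*} [Group H] (hH : IsPGroup 2 H) (ψ : H →* B)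
    (h : ∀ y, ψ y ∈ s.A ⊔ s.K) : ∃ φ : H →* s.U, ∀ y, φ y = 1 ↔ ψ y ∈ s.K := by
  have hP : IsPGroup 2 ψ.range := hH.of_surjective _ ψ.rangeRestrict_surjective
  obtain ⟨n, -, δ, hδ, k⟩ := s.toC hP fun b _ => hN b
  obtain ⟨d, -, k'⟩ := Std.toU (s := s) (pg_cj hP n) (fun b _ => hN b) (cj_le_iff.2 (by
    rintro _ ⟨y, rfl⟩
    obtain ⟨a, ha, e⟩ := s.mem_AK.1 ((s.cj_AK (hN n)).2 (h y))
    have c := (k _ ⟨y, rfl⟩).mul_left (s.comm_K (s.mem δ).2.2.1 (inv_mem e)).symm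
    rw [mul_inv_rev, inv_inv, mul_inv_cancel_left] at c
    exact mul_inv_cancel_left a (n * ψ y * n⁻¹) ▸ mul_mem (s.cenX ha hδ c) (s.K_le_cX e)))
  choose u hu e using fun y => k' _ (conj_mem_cj (⟨y, rfl⟩ : ψ y ∈ ψ.range))
  have UD := fun y => s.U_le_D (hu y)
  refine ⟨MonoidHom.mk' (fun y => ⟨u y, hu y⟩) fun p q => Subtype.ext (inv_mul_eq_one.1 ?_), fun y => ?_⟩
  · refine s.DK (mul_mem (inv_mem (UD _)) (mul_mem (UD _) (UD _))) ?_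
    have := mul_mem (e (p * q)) (inv_mem (mul_mem (s.cj_K (le_normalizer (inv_mem (s.D_le_A (UD q)))) (e p)) (e q)))
    rw [map_mul] at this
    simpa [mul_assoc] using this
  · rw [← s.cj_K_iff (hN n), ← s.cj_K_iff (hN d), ← mul_mem_cancel_right (inv_mem (e y))]
    simp only [mul_inv_rev, inv_inv, mul_inv_cancel_left, mul_assoc, inv_mul_cancel_left]
    exact ⟨fun k => by rw [show u y = 1 from congrArg Subtype.val k]; exact one_mem _,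
      fun k => Subtype.ext (s.DK (UD y) k)⟩

namespace Cv

variable (f : Cv G B)

/-- Transport by conjugation. -/
def tr (g : G) : Cv G B where
  s := f.s
  A := cj(g, f.A)
  N := cj(g, f.N)
  z := g * f.z * g⁻¹
  ρ x := f.ρ (g⁻¹ * x * g)
  zz := P1A.sq_conj f.zz
  z1 := mt (conj_eq_one_iff (a := g)).1 f.z1
  zA := conj_mem_cj f.zA
  memN n := by
    rw [mem_cj, f.memN, ← commute_map_iff (MulAut.conj g).injective]
    simp [mul_assoc]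
  AN := cj_mono g f.AN
  norm := cj_norm f.A g ▸ cj_mono g f.norm
  top := f.top
  mul x hx y hy := by
    rw [← f.mul _ (mem_cj.1 hx) _ (mem_cj.1 hy)]
    simp [mul_assoc]
  mem a ha := f.mem _ (mem_cj.1 ha)
  surj b hb :=
    have ⟨a, ha, e⟩ := f.surj b hb
    ⟨_, conj_mem_cj ha, by simpa [mul_assoc] using e⟩
  surjN b :=
    have ⟨a, ha, e⟩ := f.surjN b
    ⟨_, conj_mem_cj ha, by simpa [mul_assoc] using e⟩
  ρz := by simp [mul_assoc, f.ρz]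
  ker n hn e := (f.ker _ (mem_cj.1 hn) e).imp (fun k => by
    rwa [mul_assoc, inv_mul_eq_one, eq_comm, mul_eq_right] at k) fun k => by rw [← k]; group
  kerK n hn h := cj_cent f.A g ▸ mem_cj.2 (f.kerK _ (mem_cj.1 hn) h)
  perf := have : Group.IsPerfect f.A := ⟨f.perf⟩
    Group.isPerfect_def.1 (Group.IsPerfect.map _)
  ti k hk h2 h1 n h := by
    rw [← cj_cent, mem_cj] at hk h
    refine mem_cj.2 (f.ti _ hk (by simpa using P1A.sq_conj (n := g⁻¹) h2) (fun e => h1 ?_) _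
      (by simpa [mul_assoc] using h))
    rwa [mul_assoc, inv_mul_eq_one, eq_comm, mul_eq_right] at e

/-- A conjugate of `z` commuting with `z`. -/
structure Pr (t : G) : Prop where
  cj : IsConj f.z t
  mem : t ∈ f.N
  ne : t ≠ f.z

variable {f}

theorem Pr.sq {t : G} (h : f.Pr t) : t * t = 1 := by
  obtain ⟨g, rfl⟩ := isConj_iff.1 h.cj
  exact P1A.sq_conj f.zz

theorem Pr.ex {t : G} (h : f.Pr t) : ∃ f' : Cv G B, f'.z = t ∧ f'.s = f.s := by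
  obtain ⟨g, rfl⟩ := isConj_iff.1 h.cj
  exact ⟨f.tr g, rfl, rfl⟩

theorem Pr.conj {t n : G} (h : f.Pr t) (hn : n ∈ f.N) : f.Pr (n * t * n⁻¹) :=
  ⟨h.cj.trans (isConj_iff.2 ⟨n, rfl⟩), mul_mem (mul_mem hn h.mem) (inv_mem hn), fun e => h.ne (by
    rwa [mul_inv_eq_iff_eq_mul, ← (f.cz hn).eq, mul_right_inj] at e)⟩

theorem Pr.wlog {t : G} (h : f.Pr t) (b : B) : ∃ t', f.Pr t' ∧ f.ρ t' = b * f.ρ t * b⁻¹ :=
  have ⟨_, hn, e⟩ := f.surjN b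
  ⟨_, h.conj hn, by rw [f.conj hn h.mem, e]⟩

theorem Pr.notK {t : G} (h : f.Pr t) : f.ρ t ∉ f.s.K := fun k => by
  obtain ⟨g, rfl⟩ := isConj_iff.1 h.cj
  have := f.ti _ (mem_cent.2 fun a ha => f.cz (f.AN ha)) f.zz f.z1 g (f.kerK _ h.mem k)
  exact h.ne (by rw [(f.cz this).eq, mul_inv_cancel_right])

theorem Pr.symm {f' : Cv G B} (h : f.Pr f'.z) : f'.Pr f.z :=
  ⟨h.cj.symm, (f'.memN _).2 (f.cz h.mem).symm, h.ne.symm⟩

/-- A conjugate `e z` of `z`. -/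
theorem flip {e n : G} (he : e ∈ f.N) (h1 : e ≠ 1) (h : n * f.z * n⁻¹ = e * f.z) :
    f.Pr (e * f.z) ∧ f.ρ (e * f.z) = f.ρ e :=
  ⟨⟨isConj_iff.2 ⟨n, h⟩, mul_mem he f.zN, fun k => h1 (mul_eq_right.1 k)⟩, by
    rw [f.mul _ he _ f.zN, f.ρz, mul_one]⟩

variable (f)

/-- The elements inducing inner automorphisms. -/
abbrev M : Subgroup G := f.pre (f.s.A ⊔ f.s.K)

theorem M_conj {n y : G} (hn : n ∈ f.N) : n * y * n⁻¹ ∈ f.M ↔ y ∈ f.M := by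
  by_cases hy : y ∈ f.N
  · exact and_congr (iff_of_true (mul_mem (mul_mem hn hy) (inv_mem hn)) hy)
      (by rw [f.conj hn hy, f.s.cj_AK (f.top _)])
  · refine iff_of_false (fun k => hy ?_) fun k => hy k.1
    simpa [mul_assoc] using mul_mem (mul_mem (inv_mem hn) k.1) hn

theorem out2 {P : Subgroup G} (hP : IsPGroup 2 P) (hN : P ≤ f.N) {p q : G} (hp : p ∈ P) (hq : q ∈ P) :
    p ∈ f.M ∨ q ∈ f.M ∨ p * q ∈ f.M :=
  (Std.out2 (s := f.s) (f.pg_im hP) (fun b _ => f.top b) ⟨p, hp, hN hp, rfl⟩ ⟨q, hq, hN hq, rfl⟩).imp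
    (fun k => ⟨hN hp, k⟩) (Or.imp (fun k => ⟨hN hq, k⟩) fun k =>
      ⟨hN (mul_mem hp hq), f.mul _ (hN hp) _ (hN hq) ▸ k⟩)

theorem trick {P : Subgroup G} (hP : IsPGroup 2 P) (hN : P ≤ f.N) {n y : G} (hn : n ∈ f.N) (hy : y ∈ P)
    (h : n * y * n⁻¹ ∈ P) : n * y * n⁻¹ * y⁻¹ ∈ f.M := by
  rcases f.out2 hP hN h (inv_mem hy) with k | k | k
  exacts [mul_mem k (inv_mem ((f.M_conj hn).1 k)), mul_mem ((f.M_conj hn).2 (inv_mem_iff.1 k)) k, k]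

theorem mem_cx {x : G} {b : B} (hb : b ∈ f.s.A) (h : ∀ p ∈ f.N, f.ρ p = b → Commute p x) : b ∈ f.cx x :=
  have ⟨p, hp, e⟩ := f.exists_lift hb
  ⟨p, by rintro _ ⟨i, rfl⟩; exact ((h p hp e).symm.zpow_left i).eq, hp, e⟩

theorem κ_add' (α β β' : F) : f.κ α (β + β') = f.κ α β * f.κ α β' := by
  obtain ⟨a, ha, ea⟩ := f.exists_lift (f.s.mem α).1
  obtain ⟨b, hb, eb⟩ := f.exists_lift (f.s.mem β).2.1
  obtain ⟨b', hb', eb'⟩ := f.exists_lift (f.s.mem β').2.1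
  have := f.κ_eq ha (mul_mem hb hb') ea (by rw [f.mul _ hb _ hb', eb, eb', f.s.b_add])
  rw [show b * b' * a * (b * b')⁻¹ = b * (b' * a * b'⁻¹) * b⁻¹ by group, f.κ_eq ha hb' ea eb', ← conj_mul,
    f.κ_eq ha hb ea eb, (f.X_comm (f.κ_spec α β').1 ⟨_, (f.κ_spec α β').2⟩ hb
      (eb ▸ f.s.QA_le_D (f.s.letters_mem _).2.1)).eq, mul_inv_cancel_right, mul_assoc, mul_right_inj] at this
  exact this.symm

theorem conj_a {w y : G} {α : F} (hw : w ∈ f.pre f.s.U) (hy : y ∈ f.N) (e : f.ρ y = f.s.a α) :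
    ∃ β, w * y * w⁻¹ = y * f.κ α β := by
  obtain ⟨q, hq, τ, e1⟩ := f.s.mem_U.1 hw.2
  obtain ⟨α', β, t, u, γ, rfl⟩ := f.s.mem_QA.1 hq
  have M := f.s.mem
  obtain ⟨b, hb, eb⟩ := f.exists_lift (M β).2.1
  have kc : ∀ γ, f.s.c γ ∈ f.cx y := fun γ => f.mem_cx (M γ).2.2.1 fun p hp ep =>
    (f.X_comm hp ⟨γ, ep⟩ hy (e ▸ f.s.QA_le_D (f.s.letters_mem _).1)).symm
  have := f.comm hy (mul_mem (inv_mem hb) hw.1) (by
    rw [f.mul _ (inv_mem hb) _ hw.1, f.inv hb, e1, eb, Lt.el, f.s.ab, ← mul_assoc, ← mul_assoc, ← mul_assoc,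
      ← mul_assoc, ← mul_assoc, inv_mul_cancel_left]
    exact mul_mem (mul_mem (mul_mem (mul_mem (mul_mem
      (f.mem_cx (M _).1 fun p hp ep => f.a_ax hy hp e (.inl ep)) (kc _))
      (f.mem_cx (M _).2.2.2.1 fun p hp ep => f.ab_s hy hp (.inl e) (.inl ep)))
      (f.mem_cx (M _).2.2.2.2.1 fun p hp ep => f.ab_s hy hp (.inl e) (.inr ep))) (kc _))
      (f.mem_cx (M _).2.2.2.2.2 fun p hp ep => f.a_ax hy hp e (.inr ep)))
  exact ⟨β, by rw [← f.κ_eq hy hb e eb, ← mul_inv_cancel_left b w, mul_assoc b, this.eq]; group⟩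

/-- If `D` centralises `z'`, then `U` induces inner automorphisms on `A'`. -/
theorem U_le_M {f' : Cv G B} (h : f.pre f.s.D ≤ f'.N) : f.pre f.s.U ≤ f'.M := by
  have pU := f.pg_pre f.s.syl.pg
  have UN : f.pre f.s.U ≤ f'.N := fun y hy => h ⟨hy.1, f.s.U_le_D hy.2⟩
  have hz : f.z ∈ f'.M := f.z_mem fun y hy => ⟨UN (mul_mem hy hy), by
    rw [f'.mul _ (UN hy) _ (UN hy)]
    exact f'.s.sq_inn (f'.top _) (pg_iff.1 (f'.pg_im pU) _ ⟨y, hy, UN hy, rfl⟩)⟩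
  have L := f.s.letters_mem
  have QU : f.s.QA ≤ f.s.U := le_sup_left
  have xU : ∀ t, f.s.x t ∈ f.s.U := fun t => mem_sup_right ⟨t, rfl⟩
  obtain ⟨n, hn, en⟩ := f.exists_lift f.s.mem'.2.2.2.2
  have k : ∀ b ∈ f.s.U, f.s.ξ * b * f.s.ξ⁻¹ ∈ f.s.U → f.s.ξ * b * f.s.ξ⁻¹ * b⁻¹ ∈ f.im f'.M := fun b hb hb' => by
    obtain ⟨y, hy, rfl⟩ := f.exists_lift ((sylA f.s).le hb)
    have m : n * y * n⁻¹ ∈ f.pre f.s.U := ⟨mul_mem (mul_mem hn hy) (inv_mem hn), by rwa [f.conj hn hy, en]⟩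
    exact ⟨_, f'.trick pU UN (h ⟨hn, en ▸ ξ_D f.s⟩) ⟨hy, hb⟩ m, mul_mem m.1 (inv_mem hy), by
      rw [f.mul _ m.1 _ (inv_mem hy), f.conj hn hy, en, f.inv hy]⟩
  have k1 := fun t => (ξ_comm f.s t).1 ▸ k _ (QU (L _).2.2.1) ((f.s.ξact _).1 ▸ QU (L _).2.2.1)
  have k2 := fun t => (ξ_comm f.s t).2.1 ▸ k _ (QU (L _).2.2.2.1) ((f.s.ξact _).2.1 ▸ QU (L _).2.2.2.1)
  have k3 := fun t => (ξ_comm f.s t).2.2 ▸ k _ (xU _) ((f.s.ξact _).2.2 ▸ xU _)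
  have k4 : ∀ t, f.s.a t ∈ f.im f'.M := fun t =>
    a_comm f.s t ▸ mul_mem (mul_mem (mul_mem (k3 1) (k2 t)) (inv_mem (k3 1))) (inv_mem (k2 t))
  have k5 : ∀ t, f.s.b t ∈ f.im f'.M := fun t => by
    obtain ⟨w, hw, ew⟩ := f.exists_lift f.s.mem'.2.2.1
    obtain ⟨y, h1, hy, e⟩ := k4 t
    exact ⟨_, (f'.M_conj (h ⟨hw, ew ▸ (L 0).2.2.2.2.2.2⟩)).2 h1, mul_mem (mul_mem hw hy) (inv_mem hw), by
      rw [f.conj hw hy, ew, e, b_eq]⟩
  have : f.s.U ≤ f.im f'.M := sup_le ((closure_le _).2 (by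
    rintro _ ⟨t, rfl | rfl | rfl | rfl | rfl⟩
    exacts [k4 t, k5 t, k1 t, k2 t, c_sq f.s t ▸ mul_mem (mul_mem (k4 t) (k5 1)) (mul_mem (k4 t) (k5 1))]))
    (by rintro _ ⟨t, rfl⟩; exact k3 t)
  intro y hy
  obtain ⟨p, h1, hp, e⟩ := this hy.2
  rcases f.eq hy.1 hp e.symm with rfl | rfl
  exacts [h1, mul_mem h1 hz]

/-- `ρ` as a homomorphism on a subgroup of `N`. -/
def hom {P : Subgroup G} (h : P ≤ f.N) : P →* B :=
  MonoidHom.mk' (fun y => f.ρ y) fun p q => f.mul _ (h p.2) _ (h q.2)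

/-- A subgroup of `C(A')` avoiding `z` does not cover `X`. -/
theorem not_cover {f' : Cv G B} {V : Subgroup G} (hV : V ≤ 𝐂[f'.A]) (hX : f.s.X ≤ f.im V) {n : G} (hn : n ∈ f.N)
    (en : f.ρ n = f.s.h) : n ∈ f'.N := by
  obtain ⟨p, h1, hp, ep⟩ := hX ⟨1, rfl⟩
  obtain ⟨q, h2, hq, eq⟩ := hX ⟨ω ^ 2, rfl⟩
  have N : ∀ {y}, y ∈ f.N → n * y * n⁻¹ ∈ f.N := fun h => mul_mem (mul_mem hn h) (inv_mem hn)
  have k : ∀ y ∈ V, y ∈ f.N → ∀ γ, γ ≠ 0 → f.ρ y = f.s.c γ → n * y * n⁻¹ ∈ V → n ∈ f'.N :=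
    fun y hy hy' γ h0 e h => f'.ti y (hV hy) (f.X_sq hy' ⟨γ, e⟩)
      (fun k => h0 (f.s.c_inj _ (by rw [← e, k, f.one]))) n (hV h)
  have epq : f.ρ (p * q) = f.s.c (1 + ω ^ 2) := by rw [f.mul _ hp _ hq, ep, eq, f.s.c_add]
  rcases f.eq (N hp) hq (by rw [f.conj hn hp, en, ep, eq, (f.s.hact _).2.2.1, mul_one]) with e1 | e1
  · exact k p h1 hp 1 one_ne_zero ep (e1 ▸ h2)
  rcases f.eq (N hq) (mul_mem hp hq) (by
    rw [f.conj hn hq, en, epq, eq, (f.s.hact _).2.2.1, f.s.c_eq]; decide +kernel) with e2 | e2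
  · exact k q h2 hq _ (by decide +kernel) eq (e2 ▸ mul_mem h1 h2)
  refine k _ (mul_mem h1 h2) (mul_mem hp hq) _ (by decide +kernel) epq ?_
  rw [← conj_mul, e1, e2, mul_assoc q, ← mul_assoc f.z, ← (f.cz (mul_mem hp hq)).eq, mul_assoc _ f.z, f.zz, mul_one]
  exact mul_mem h2 (mul_mem h1 h2)

theorem Pr.notLong {f : Cv G B} {t : G} (h : f.Pr t) : ¬ f.s.Long (f.ρ t) := by
  rintro ⟨b, -, δ, hδ, k, hk, e⟩
  obtain ⟨t, h, e'⟩ := h.wlog b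
  rw [← e'] at e
  obtain ⟨f', rfl, hs⟩ := h.ex
  have DN : f.pre f.s.D ≤ f'.N := fun a ha => (f'.memN a).2 (f.D_comm h.mem (fun d hd =>
    e ▸ (f.s.comm_K (f.s.D_le_A hd) hk).mul_right (f.s.mem_cX.1 (f.s.D_le_cent hd) δ).symm) ha.1 ha.2)
  have UM := f.U_le_M DN
  have pU := f.pg_pre f.s.syl.pg
  have UN : f.pre f.s.U ≤ f.N := fun _ h => h.1
  obtain ⟨φ, hφ⟩ := proj f'.s f'.top pU (f'.hom fun y hy => (UM hy).1) fun y => (UM y.2).2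
  have zU : f.z ∈ f.pre f.s.U := ⟨f.zN, f.ρz ▸ one_mem _⟩
  have hz : φ ⟨f.z, zU⟩ ≠ 1 := fun k => h.symm.notK ((hφ _).1 k)
  have c1 := φ.ker.card_mul_index
  have c2 := (f.hom UN).ker.card_mul_index
  have c3 : (f.hom UN).range = f.s.U := le_antisymm (by rintro _ ⟨y, rfl⟩; exact y.2.2) fun u hu =>
    have ⟨a, ha, e⟩ := f.exists_lift ((sylA f.s).le hu)
    ⟨⟨a, ha, e ▸ hu⟩, e⟩
  have c4 : 1 < Nat.card (f.hom UN).ker := (one_lt_card_iff_ne_bot _).2 fun k =>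
    f.z1 (congrArg Subtype.val (mem_bot.1 (k.le (show ⟨f.z, zU⟩ ∈ (f.hom UN).ker from f.ρz)) :
      (⟨f.z, zU⟩ : f.pre f.s.U) = 1))
  have c5 := φ.range.card_le_card_group
  have c6 : 0 < Nat.card f'.s.U := Nat.card_pos
  rw [index_ker] at c1 c2
  rw [c3, ← c1, show Nat.card f.s.U = Nat.card f'.s.U by rw [hs]] at c2
  obtain ⟨y, h1, h2, h3, h4⟩ := GT.PG.exists_mem_center_of_normal pU φ.ker fun k => by
    rw [k, card_bot] at c2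
    nlinarith
  have y2 : (y : G) * y = 1 := congrArg Subtype.val ((pow_two y).symm.trans h4)
  have nz : ∀ u ∈ φ.ker, f.ρ u = 1 → u = 1 := fun u hu e => (f.ker _ u.2.1 e).elim (fun k => Subtype.ext k)
    fun k => absurd (by rwa [← show u = ⟨f.z, zU⟩ from Subtype.ext k]) hz
  obtain ⟨γ, eγ⟩ := f.s.mem_X ((sylA f.s).le y.2.2) (mem_cent.2 fun u hu => by
    obtain ⟨a, ha, rfl⟩ := f.exists_lift (f.s.D_le_A (f.s.QA_le_D hu))
    rw [← f.mul _ ha _ y.2.1, ← f.mul _ y.2.1 _ ha]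
    exact congrArg (fun v : f.pre f.s.U => f.ρ v) (mem_center_iff.1 h2 ⟨a, ha, mem_sup_left hu⟩))
    (by rw [← f.mul _ y.2.1 _ y.2.1, y2, f.one])
  have h0 : γ ≠ 0 := fun k => h3 (nz y h1 (by rw [eγ, k, add_zero' f.s.c_add]))
  have kV : ∀ u ∈ φ.ker, u = 1 ∨ u = y := fun u hu => by
    by_contra! hc
    obtain ⟨n, hn, en⟩ := f.exists_lift f.s.mem'.2.2.2.1
    have m : ∀ u ∈ φ.ker, f.ρ u ∈ f.im (φ.ker.map (f.pre f.s.U).subtype) := fun u hu =>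
      ⟨u, ⟨u, hu, rfl⟩, u.2.1, rfl⟩
    have := f.not_cover (f' := f') (V := φ.ker.map (f.pre f.s.U).subtype) (by
      rintro _ ⟨u, hu, rfl⟩
      exact f'.kerK _ (UM u.2).1 ((hφ u).1 hu)) ?_ hn en
    · have c := congrArg f.ρ (f'.cz this).eq
      rw [f.mul _ hn _ h.mem, f.mul _ h.mem _ hn, en, e, ← mul_assoc, (f.s.comm_K f.s.mem'.2.2.2.1 hk).eq, mul_assoc,
        mul_assoc, mul_right_inj, ← mul_inv_eq_iff_eq_mul, (f.s.hact _).2.2.1, f.s.c_eq, mul_eq_right₀ hδ] at c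
      exact absurd c (by decide +kernel)
    by_cases hX : f.ρ u ∈ f.s.X
    · obtain ⟨γ', e1⟩ := hX
      have h5 : γ' ≠ 0 := fun k => hc.1 (nz u hu (by rw [e1, k, add_zero' f.s.c_add]))
      have h6 : γ' ≠ γ := fun k => hc.2 (mul_inv_eq_one.1 (nz _ (mul_mem hu (inv_mem h1)) (by
        rw [coe_mul, coe_inv, f.mul _ u.2.1 _ (inv_mem y.2.1), f.inv y.2.1, e1, eγ, k, mul_inv_cancel])))
      rintro _ ⟨τ, rfl⟩
      rcases (by decide +kernel : ∀ γ γ' τ : F, γ ≠ 0 → γ' ≠ 0 → γ' ≠ γ →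
        τ = 0 ∨ τ = γ ∨ τ = γ' ∨ τ = γ + γ') γ γ' τ h0 h5 h6 with rfl | rfl | rfl | rfl
      exacts [add_zero' f.s.c_add ▸ one_mem _, eγ ▸ m y h1, e1 ▸ m u hu,
        f.s.c_add _ _ ▸ mul_mem (eγ ▸ m y h1) (e1 ▸ m u hu)]
    · refine X_le_of f.s (norm_of_forall_cj_le fun q hq => cj_le_iff.2 ?_) (m u hu) u.2.2 hX
      rintro _ ⟨_, ⟨v, hv, rfl⟩, -, rfl⟩
      obtain ⟨a, ha, rfl⟩ := f.exists_lift (f.s.D_le_A (f.s.QA_le_D hq))
      exact f.conj ha v.2.1 ▸ m _ (φ.normal_ker.conj_mem v hv ⟨a, ha, mem_sup_left hq⟩)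
  have c7 : Nat.card φ.ker ≤ 2 := by
    classical
    refine (Nat.card_le_card_of_injective (fun u : φ.ker => decide (u.1 = 1)) fun u v e => Subtype.ext ?_).trans
      (by simp)
    rcases kV _ u.2 with p | p <;> rcases kV _ v.2 with q | q <;> simp_all
  have onto : φ.range = ⊤ := eq_top_of_le_card _ (by nlinarith)
  obtain ⟨α, β, eκ⟩ := f.both y.2.1 h0 eγ
  have κU : ∀ β, f.κ α β ∈ f.pre f.s.U := fun β =>
    ⟨(f.κ_spec α β).1, (f.κ_spec α β).2 ▸ mem_sup_left (f.s.letters_mem _).2.2.2.2.1⟩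
  have eβ : α * β = γ := f.s.c_eq.1 (by rw [← eγ, ← eκ, (f.κ_spec α β).2])
  obtain ⟨a, ha, ea⟩ := f.exists_lift (f.s.mem α).1
  have aU : a ∈ f.pre f.s.U := ⟨ha, ea ▸ mem_sup_left (f.s.letters_mem _).1⟩
  have k1 : φ ⟨_, κU β⟩ = 1 := (show y = ⟨_, κU β⟩ from Subtype.ext eκ.symm) ▸ h1
  have hX := mem_X_of_two f'.s (φ ⟨a, aU⟩).2 (e := φ ⟨_, κU (ω * β)⟩) fun w hw => by
    obtain ⟨v, ev⟩ := onto.ge (mem_top (⟨w, mem_sup_left hw⟩ : f'.s.U))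
    obtain ⟨β', e1⟩ := f.conj_a v.2 ha ea
    have e2 := congrArg (fun u => (φ u : B)) (show v * ⟨a, aU⟩ * v⁻¹ = ⟨a, aU⟩ * ⟨_, κU β'⟩ from Subtype.ext e1)
    simp only [map_mul, map_inv, ev, coe_mul, coe_inv] at e2
    rw [e2, mul_eq_left, mul_right_inj, OneMemClass.coe_eq_one, SetLike.coe_eq_coe]
    rcases (by decide +kernel : ∀ α β β' : F, α * β ≠ 0 → β' = 0 ∨ β' = β ∨ β' = ω * β ∨ β' = ω * β + β)
      α β β' (eβ ▸ h0) with rfl | rfl | rfl | rfl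
    · exact .inl (φ.map_one ▸ congrArg φ (Subtype.ext (f.κ_zero α).1))
    · exact .inl k1
    · exact .inr rfl
    · exact .inr (by rw [← mul_one (φ ⟨_, κU (ω * β)⟩), ← k1, ← map_mul]; exact congrArg φ (Subtype.ext (f.κ_add' ..)))
  obtain ⟨b, hb, eb⟩ := f.exists_lift (f.s.mem (ω * β)).2.1
  have bU : b ∈ f.pre f.s.U := ⟨hb, eb ▸ mem_sup_left (f.s.letters_mem _).2.1⟩
  have e2 := congrArg φ (show (⟨b, bU⟩ * ⟨a, aU⟩ * ⟨b, bU⟩⁻¹ : f.pre f.s.U) = ⟨a, aU⟩ * ⟨_, κU (ω * β)⟩ from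
    Subtype.ext (f.κ_eq ha hb ea eb))
  rw [map_mul, map_mul, map_mul, map_inv, ← show φ ⟨a, aU⟩ * φ ⟨b, bU⟩ = φ ⟨b, bU⟩ * φ ⟨a, aU⟩ from Subtype.ext
    (f'.s.D_le_cent (f'.s.U_le_D (φ ⟨b, bU⟩).2) _ hX), mul_inv_cancel_right, left_eq_mul] at e2
  have e3 := (f.κ_spec α (ω * β)).2
  rcases kV _ e2 with k | k
  · rw [show f.κ α (ω * β) = 1 from congrArg Subtype.val k, f.one] at e3
    exact h0 (by simpa [← eβ, ω_ne.1] using f.s.c_inj _ e3.symm)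
  · rw [show f.κ α (ω * β) = y from congrArg Subtype.val k, eγ, f.s.c_eq, mul_left_comm, eβ, right_eq_mul₀ h0] at e3
    exact ω_ne.2.1 e3

end Cv

end Cfsg.Agent.STP
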