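import Mathlib
import Cfsg.Agent.STP.G2EC

/-! The double cover of `G₂(4)`: the central involution is isolated. -/

set_option autoImplicit false
set_option linter.unusedSectionVars false

namespace Cfsg.Agent.STP.Cv

open Cfsg Cfsg.Agent.Loc.Mss Subgroup Cfsg.Agent.STA Cfsg.Agent.STA.P1A

variable {G B : Type*} [Group G] [Finite G] [Group B] [Finite B] {f : Cv G B}

theorem Pr.notShort {t : G} (h : f.Pr t) {k : B} (hk : k ∈ f.s.K) {τ : F} (h0 : τ ≠ 0) :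
    f.ρ t ≠ k * f.s.s2 τ := fun e => by
  obtain ⟨f', rfl, hs⟩ := h.ex
  have M := f.s.mem
  have L := f.s.el_letters
  have cK : ∀ {b}, b ∈ f.s.A → Commute b (f.s.s2 τ) → Commute b (f.ρ f'.z) := fun hb c =>
    e ▸ (f.s.comm_K hb hk).mul_right c
  obtain ⟨p, hp, ep⟩ := f.exists_lift (M 1).2.2.2.1
  have m : p * f'.z * p⁻¹ * f'.z⁻¹ ∈ f.N := mul_mem (h.conj hp).mem (inv_mem h.mem)
  have e1 : f.ρ (p * f'.z * p⁻¹ * f'.z⁻¹) = f.s.c τ := by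
    rw [f.mul _ (h.conj hp).mem _ (inv_mem h.mem), f.conj hp h.mem, f.inv h.mem, ep, e, mul_inv_eq_iff_eq_mul,
      mul_inv_eq_iff_eq_mul, (f.s.comm_K (M 1).2.2.2.1 hk).left_comm, f.s.ss, em1, one_mul, one_mul,
      mul_assoc (f.s.c τ), (((f.s.comm_K (M τ).2.2.1 hk).mul_right (f.s.cc _ _).2.2.2.1).mul_right
        (f.s.cc _ _).2.2.1).eq, mul_assoc k, mul_assoc k]
  obtain ⟨α, β, eκ⟩ := f.both m h0 e1
  have e2 := f.X_sq m ⟨τ, e1⟩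
  have ηA := mul_mem f.s.mem'.2.2.2.1 f.s.mem'.2.2.2.2
  have ηel : ∀ α β, f.s.h * f.s.ξ * f.s.el α β 0 0 0 * (f.s.h * f.s.ξ)⁻¹ = f.s.el (ω * α) (ω * β) 0 0 0 :=
    fun α β => by
      have := f.s.h_el α β 0 0 0
      rw [mul_zero, mul_zero] at this
      rw [← this, mul_inv_rev, mul_assoc f.s.h, ← mul_assoc _ f.s.ξ⁻¹, mul_assoc f.s.h, f.s.ξ_el, mul_zero, mul_zero]
  have ηc : Commute (f.s.h * f.s.ξ) (f.ρ f'.z) := cK ηA (mul_inv_eq_iff_eq_mul.1 (by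
    rw [mul_inv_rev, mul_assoc f.s.h, ← mul_assoc _ f.s.ξ⁻¹, mul_assoc f.s.h, (f.s.ξact _).2.1, (f.s.hact _).2.2.2.2,
      ← mul_assoc, ← pow_succ', ω_cube, one_mul]))
  have z : ∀ t : F, ω * (ω * t) + ω * t = t := by decide +kernel
  have ka : ∀ t, f.s.a t ∈ f.cx f'.z := fun t => by
    have := f.comm_cx h.mem ηA (M (ω * t)).1 ηc (cK (M _).1 (f.s.com _ _).2.1)
    rwa [add_inv f.s.a_add, (L _).1, ηel, mul_zero, ← (L _).1, ← (L _).1, ← f.s.a_add, z] at this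
  have kb : ∀ t, f.s.b t ∈ f.cx f'.z := fun t => by
    have := f.comm_cx h.mem ηA (M (ω * t)).2.1 ηc (cK (M _).2.1 (f.s.com _ _).2.2.2.1)
    rwa [add_inv f.s.b_add, (L _).2.1, ηel, mul_zero, ← (L _).2.1, ← (L _).2.1, ← f.s.b_add, z] at this
  obtain ⟨n, hn, en⟩ := f.exists_lift ηA
  have n' : n ∈ f'.N := (f'.memN n).2 (f.comm h.mem hn (en ▸ f.three_cx h.mem ηA ηc (by
    rw [f.s.ξcom.2.2.1.symm.mul_pow, f.s.h3, f.s.ξ3, one_mul])))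
  obtain ⟨v, hv, ev⟩ := f.exists_lift (f.el_A (ω * α) (ω * β) 0 0 0)
  have v' : v ∈ f'.N := (f'.memN v).2 (f.comm h.mem hv (by
    rw [ev, show f.s.el (ω * α) (ω * β) 0 0 0 = f.s.a (ω * α) * f.s.b (ω * β) by
      rw [(L _).1, (L _).2.1, Lt.el_mul]; simp]
    exact mul_mem (ka _) (kb _)))
  have nv := mul_mem (mul_mem hn hv) (inv_mem hn)
  have e3 : f.ρ (n * v * n⁻¹) = f.s.el (ω * (ω * α)) (ω * (ω * β)) 0 0 0 := by
    rw [f.conj hn hv, en, ev, ηel]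
  have hM := f'.trick (P := f.pre f.s.QA ⊓ f'.N) (f.pg_pre f.s.pg_QA).to_inf_left inf_le_right n'
    ⟨⟨hv, ev ▸ f.s.el_mem _ _ _ _ _⟩, v'⟩ ⟨⟨nv, e3 ▸ f.s.el_mem _ _ _ _ _⟩, f'.N.mul_mem (mul_mem n' v') (inv_mem n')⟩
  have e4 : n * v * n⁻¹ * v⁻¹ * (n * v * n⁻¹ * v⁻¹) = p * f'.z * p⁻¹ * f'.z⁻¹ := by
    rw [f.sq_lift (mul_mem nv (inv_mem hv)) (f.el_A ..) (by
      rw [f.mul _ nv _ (inv_mem hv), e3, f.inv hv, ev, Lt.el_inv, Lt.el_mul, z, z, add_zero]), f.sq_el, eκ,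
      show f.sq (f.s.el 0 0 0 0 0) = 1 from (f.κ_zero 0).1, mul_one]
  have m' := e4 ▸ mul_mem hM.1 hM.1
  obtain ⟨h1, h2⟩ := flip (n := p) m' (fun k => h0 (f.s.c_inj _ (by rw [← e1, k, f.one])))
    (inv_mul_cancel_right _ _).symm
  have e5 := f'.mul _ hM.1 _ hM.1
  rw [e4, ← h2] at e5
  refine h1.notLong (e5 ▸ Std.long_of_sq hM.2 ?_ (e5 ▸ h1.notK))
  rw [← e5, h2, ← f'.mul _ m' _ m', e2, f'.one]

theorem Pr.notInn {t : G} (h : f.Pr t) : f.ρ t ∉ f.s.A ⊔ f.s.K := fun hi => by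
  obtain ⟨a, ha, hk⟩ := f.s.mem_AK.1 hi
  have t2 : f.ρ t * f.ρ t = 1 := by rw [← f.mul _ h.mem _ h.mem, h.sq, f.one]
  have c := f.s.comm_K ha hk
  have a2 : a * a = 1 := (f.s.z2 _ (mul_mem ha ha) (by
    rw [← mul_inv_cancel_left a (f.ρ t), ← pow_two, c.mul_pow, mul_eq_one_iff_eq_inv, pow_two] at t2
    exact t2 ▸ inv_mem (pow_mem hk 2))).2 rfl
  have a1 : a ≠ 1 := fun e => h.notK (by simpa [e] using hk)
  obtain ⟨n, -, hn⟩ := f.s.into_U ha ⟨1, by rwa [pow_one, pow_two]⟩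
  obtain ⟨m, -, hm⟩ := f.s.inv_U hn (P1A.sq_conj a2)
  have e : f.ρ t = a⁻¹ * f.ρ t * a := by rw [← c.eq, mul_inv_cancel_left]
  rcases long_or_short f.s hm (P1A.sq_conj (P1A.sq_conj a2)) (by simpa using a1) with k | ⟨r, -, τ, h0, k⟩
  · exact h.notLong (e ▸ ((k.of_conj (f.top _)).of_conj (f.top _)).mul hk)
  · obtain ⟨t', h', e'⟩ := h.wlog (r * m * n)
    refine h'.notShort (f.s.cj_K (f.top (r * m * n)) hk) h0 ?_
    rw [e', ← k]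
    conv_lhs => rw [e]
    group

theorem E_comm {y y' : G} (hy : y ∈ f.N) (hy' : y' ∈ f.N) {α γ α' γ' : F} (e : f.ρ y = f.s.a α * f.s.c γ)
    (e' : f.ρ y' = f.s.a α' * f.s.c γ') : Commute y y' := by
  have M := f.s.mem
  have L := f.s.letters_mem
  have k : ∀ p ∈ f.N, f.ρ p = f.s.a α → Commute p y' := fun p hp ep => (f.comm hp hy' (e' ▸ mul_mem
    (f.mem_cx (M _).1 fun q hq eq => f.a_ax hp hq ep (.inl eq)) (f.mem_cx (M _).2.2.1 fun q hq eq =>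
      (f.X_comm hq ⟨_, eq⟩ hp (ep ▸ f.s.QA_le_D (L _).1)).symm))).symm
  exact f.comm hy' hy (e ▸ mul_mem (f.mem_cx (M _).1 k) (f.mem_cx (M _).2.2.1 fun p hp ep =>
    (f.X_comm hp ⟨_, ep⟩ hy' (e' ▸ f.s.QA_le_D (mul_mem (L _).1 (L _).2.2.2.2.1))).symm))

theorem E_sq {y : G} (hy : y ∈ f.N) {α γ : F} (e : f.ρ y = f.s.a α * f.s.c γ) : y * y = 1 := by
  rw [f.sq_lift hy (f.el_A ..) (by rw [e, (f.s.el_letters _).1, Lt.el_c]), f.sq_el, (f.κ_zero _).1, one_mul]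
  exact (f.κ_zero 0).1

theorem not_pr (t : G) : ¬ f.Pr t := fun h => by
  obtain ⟨n, γ, δ, α, α', ε, hδ, hα, e1, e2⟩ := outer f.s f.top
    (by rw [← f.mul _ h.mem _ h.mem, h.sq, f.one]) h.notInn
  obtain ⟨t, h, e⟩ := h.wlog n
  rw [← e] at e1 e2
  obtain ⟨f', rfl, hs⟩ := h.ex
  have a0 := add_zero' f.s.a_add
  have c0 := add_zero' f.s.c_add
  have L := f.s.letters_mem
  have cj : ∀ {y}, y ∈ f.N → f'.z * y * f'.z⁻¹ ∈ f.N := fun hy => mul_mem (mul_mem h.mem hy) (inv_mem h.mem)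
  have key : ∀ y ∈ f.N, ∀ α γ α' γ', f.ρ y = f.s.a α * f.s.c γ → f.ρ (f'.z * y * f'.z⁻¹) = f.s.a α' * f.s.c γ' →
      y * (f'.z * y * f'.z⁻¹) ∈ f.pre f.s.QA ⊓ f'.N ∧
      (α ≠ α' ∨ γ ≠ γ' → y * (f'.z * y * f'.z⁻¹) ∉ f'.M) := fun y hy α γ α' γ' e e' => by
    have zi := inv_eq_of_mul_eq_one_right f'.zz
    have yi := inv_eq_of_mul_eq_one_right (E_sq hy e)
    have m : y * (f'.z * y * f'.z⁻¹) ∈ f'.N := (f'.memN _).2 (Commute.symm (mul_inv_eq_iff_eq_mul.1 (by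
      rw [← conj_mul, ← (E_comm hy (cj hy) e e').symm.eq, mul_right_inj, zi, ← mul_assoc, ← mul_assoc, f'.zz,
        one_mul, mul_assoc, f'.zz, mul_one])))
    refine ⟨⟨⟨mul_mem hy (cj hy), ?_⟩, m⟩, fun hne hM => ?_⟩
    · rw [f.mul _ hy _ (cj hy), e, e']
      exact mul_mem (mul_mem (L _).1 (L _).2.2.2.2.1) (mul_mem (L _).1 (L _).2.2.2.2.1)
    · obtain ⟨h1, h2⟩ := flip (n := y) m (fun k => by
        rw [← yi, inv_eq_of_mul_eq_one_right k, e', (f.s.el_letters _).1, (f.s.el_letters _).1, Lt.el_c,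
          Lt.el_c] at e
        obtain ⟨p, -, -, -, q⟩ := f.s.el_inj e
        exact hne.elim (· p.symm) (· (add_left_cancel q).symm)) (by rw [yi]; group)
      exact h1.notInn (h2 ▸ hM.2)
  obtain ⟨p, hp, ep⟩ := f.exists_lift (f.s.mem γ).2.2.1
  obtain ⟨q, hq, eq⟩ := f.exists_lift (f.s.mem α).1
  have p1 : f.ρ p = f.s.a 0 * f.s.c γ := by rw [a0, one_mul, ep]
  have p2 : f.ρ (f'.z * p * f'.z⁻¹) = f.s.a 0 * f.s.c (γ + δ) := by rw [a0, one_mul, f.conj h.mem hp, ep, e1]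
  have q1 : f.ρ q = f.s.a α * f.s.c 0 := by rw [c0, mul_one, eq]
  have q2 : f.ρ (f'.z * q * f'.z⁻¹) = f.s.a α' * f.s.c ε := by rw [f.conj h.mem hq, eq, e2]
  have k1 := key p hp _ _ _ _ p1 p2
  have k2 := key q hq _ _ _ _ q1 q2
  have k3 := key _ (mul_mem hq hp) α γ α' (ε + (γ + δ)) (by rw [f.mul _ hq _ hp, eq, ep]) (by
    rw [← conj_mul, f.mul _ (cj hq) _ (cj hp), q2, p2, a0, one_mul, mul_assoc, ← f.s.c_add])
  rcases f'.out2 (f.pg_pre f.s.pg_QA).to_inf_left inf_le_right k2.1 k1.1 with k | k | k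
  · exact k2.2 (.inl hα) k
  · exact k1.2 (.inr (by simpa using hδ)) k
  · refine k3.2 (.inl hα) ?_
    rwa [← conj_mul, (E_comm hp (cj hq) p1 q2).mul_mul_mul_comm]

end Cfsg.Agent.STP.Cv
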