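import Mathlib
import Cfsg.Agent.STP.BD
import Cfsg.Agent.Std.HeM
import Cfsg.Agent.S0813

/-!
The automorphism group `B` of `L₃(4)` as a permutation group on the points and lines of the plane, and the facts about
it and about `Γ = 4².L₃(4)` used for standard subgroups with centre of even order.
-/

set_option autoImplicit false
set_option synthInstance.maxSize 100000
set_option synthInstance.maxHeartbeats 1000000
set_option maxRecDepth 100000
set_option exponentiation.threshold 10000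

namespace Cfsg.Agent.STP

open Cfsg.Agent.Spor Cfsg.Agent.Rec Cfsg.Agent.Spor.MX Cfsg.Agent.Inv.Fz Cfsg.Agent.ONT Subgroup
open Cfsg.Agent.HeA (a1 a2 b1 b2 h0 c11 c12 c21 c22 Sq)

/-- A finite group generated by letters with the codes `cG`. -/
structure BS : Type 1 where
  B : Type
  [grp : Group B]
  [fin : Finite B]
  C : Cod Q B
  (x w o1 o2 : B)
  rep : C.RepL cG [x, x⁻¹, w, o1, o2]
  top : clos [x, x⁻¹, w, o1, o2] = ⊤

theorem nonempty_BS : Nonempty BS := by
  obtain ⟨e₀, h₀⟩ : ∃ e, (permCod Q_ok).RepL cG e := ⟨_, repL_permOf Q_ok cG_ok⟩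
  obtain ⟨C, e, h1, h2⟩ := h₀.transport (topEquiv (G := clos e₀)).symm
  have h3 : e.length = 5 := h1.length_eq.symm
  match e, h3 with
  | [a, b, c, d, f], _ =>
    obtain rfl : b = a⁻¹ := Cod.listsL_nil.decide h1 (by decide +kernel)
    exact ⟨⟨clos e₀, C, a, c, d, f, h1, h2⟩⟩

/-- The chosen data. -/
noncomputable def bs : BS := Classical.choice nonempty_BS

/-- The group `Aut L₃(4)`. -/
def B : Type := bs.B

noncomputable instance : Group B := bs.grp
instance : Finite B := bs.fin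

/-- The codes. -/
noncomputable def CB : Cod Q B := bs.C
/-- The generator of order seven. -/
noncomputable def xB : B := bs.x
/-- The inner generator of order two. -/
noncomputable def wB : B := bs.w
/-- The outer generator of order six. -/
noncomputable def o1 : B := bs.o1
/-- The outer generator of order two. -/
noncomputable def o2 : B := bs.o2
/-- The generators. -/
noncomputable def gB : List B := [xB, xB⁻¹, wB, o1, o2]

theorem repG : CB.RepL cG gB := bs.rep
theorem topG : clos gB = ⊤ := bs.top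
theorem rep3 : CB.RepL c3 (tri xB wB) := repG.take 3

theorem lfB : Lf xB wB := lf_of_codes (rep3.nth 0) (rep3.nth 2) (by decide +kernel)

/-- The projection of `Γ` onto the inner automorphisms. -/
noncomputable def π1 : Γ →* B := lfB.exists_hom.choose

theorem π1_ev (W : List ℕ) : π1 (ev x0 w0 W) = ev xB wB W := by
  rw [map_ev, π1, lfB.exists_hom.choose_spec.1, lfB.exists_hom.choose_spec.2]

theorem π1_eq_one {γ : Γ} : π1 γ = 1 ↔ γ ∈ Z0 := by
  refine ⟨ker_le ⟨x0, fun h => ?_⟩, fun h => (clos_le (K := π1.ker)).2 ?_ h⟩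
  · exact (show xB ≠ 1 from Cod.listsL_nil.decide (e := [xB, xB⁻¹, wB]) rep3 (by decide +kernel))
      (lfB.exists_hom.choose_spec.1.symm.trans h)
  · simp only [List.forall_mem_cons, MonoidHom.mem_ker, y1, y2, π1_ev]
    exact ⟨((rep3.word _).eq_iff Cod.rep_one).1 ((nbeq_iff _ _).1 (by decide +kernel)),
      ((rep3.word _).eq_iff Cod.rep_one).1 ((nbeq_iff _ _).1 (by decide +kernel)), by simp⟩

/-- The inner automorphisms. -/
noncomputable def I : Subgroup B := π1.range

theorem I_eq : I = clos (tri xB wB) := by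
  rw [I, MonoidHom.range_eq_map, ← top0, map_clos, map_tri, π1, lfB.exists_hom.choose_spec.1,
    lfB.exists_hom.choose_spec.2]

theorem card_I : Nat.card I = 20160 := by
  have h1 : π1.ker = π0.ker := Subgroup.ext fun γ => π1_eq_one.trans π0_eq_one.symm
  rw [I, ← index_ker, h1, index_ker, MonoidHom.range_eq_top.2 π0_surj, card_top, l3k_cardG]

theorem words_I (W : List (List ℕ)) : ∀ x ∈ W.map (evalW (nth 1 (tri xB wB))), x ∈ I := fun x hx => by
  obtain ⟨w, -, rfl⟩ := List.mem_map.1 hx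
  exact I_eq ▸ ev_mem xB wB w

instance I_normal : I.Normal := by
  have h := rep3.words WN cN_ok
  have h1 := words_I WN
  generalize WN.map (evalW (nth 1 (tri xB wB))) = e at h h1
  have h2 : o1 * xB * o1⁻¹ ∈ {x | x ∈ e} ∧ o1 * wB * o1⁻¹ ∈ {x | x ∈ e} ∧ o2 * xB * o2⁻¹ ∈ {x | x ∈ e} ∧
      o2 * wB * o2⁻¹ ∈ {x | x ∈ e} := (h.lists.cons Cod.listsL_nil).decide (e := [xB, xB⁻¹, wB, o1, o2]) repG (by decide +kernel)
  have k : ∀ o : B, o * xB * o⁻¹ ∈ I → o * wB * o⁻¹ ∈ I → o ∈ normalizer (I : Set B) := fun o a b =>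
    mem_normalizer_of_conj_mem fun i hi => tri_le (K := I.comap (MulAut.conj o).toMonoidHom) a b (I_eq ▸ hi)
  have x : xB ∈ I := I_eq ▸ x_mem _ _
  rw [← normalizer_eq_top_iff, eq_top_iff, ← topG, clos_le]
  simp only [gB, List.forall_mem_cons]
  exact ⟨le_normalizer x, le_normalizer (inv_mem x), le_normalizer (I_eq ▸ w_mem _ _), k _ (h1 _ h2.1) (h1 _ h2.2.1),
    k _ (h1 _ h2.2.2.1) (h1 _ h2.2.2.2), by simp⟩

theorem genO : CB.Lists O_t.dom (clos [o1, o2]) ∧ Nat.card (clos [o1, o2]) = 12 := (repG.drop 3).gen O_ok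

theorem exists_O (b : B) : ∃ o ∈ clos [o1, o2], (o : B ⧸ I) = b := by
  refine (clos_le (K := ((clos [o1, o2]).map (QuotientGroup.mk' I)).comap (QuotientGroup.mk' I))).2 ?_ (topG ▸ mem_top b)
  have k : ∀ i ∈ I, i ∈ ((clos [o1, o2]).map (QuotientGroup.mk' I)).comap (QuotientGroup.mk' I) := fun i hi =>
    ⟨1, one_mem _, ((QuotientGroup.eq_one_iff _).2 hi).symm⟩
  have x : xB ∈ I := I_eq ▸ x_mem _ _
  simp only [gB, List.forall_mem_cons]
  exact ⟨k _ x, k _ (inv_mem x), k _ (I_eq ▸ w_mem _ _), ⟨_, mem_clos (by simp), rfl⟩, ⟨_, mem_clos (by simp), rfl⟩, by simp⟩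

theorem card_B : Nat.card B ∣ 241920 := by
  rw [card_eq_card_quotient_mul_card_subgroup I, card_I, show 241920 = 12 * 20160 by norm_num, ← genO.2]
  exact Nat.mul_dvd_mul_right (card_dvd_of_surjective ((QuotientGroup.mk' I).comp (Subgroup.subtype _)) fun q => by
    obtain ⟨b, rfl⟩ := QuotientGroup.mk_surjective q
    obtain ⟨o, ho, e⟩ := exists_O b
    exact ⟨⟨o, ho⟩, e⟩) _

theorem out_law (a b : B) : (a * b * a⁻¹ * b⁻¹) ^ 3 ∈ I ∧ a ^ 6 ∈ I := by
  obtain ⟨o, ho, e⟩ := exists_O a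
  obtain ⟨p, hp, e'⟩ := exists_O b
  have h : ∀ o ∈ clos [o1, o2], o ^ 6 = 1 ∧ ∀ p ∈ clos [o1, o2], (o * p * o⁻¹ * p⁻¹) ^ 3 = 1 :=
    (genO.1.cons Cod.listsL_nil).decide Cod.repL_nil (by decide +kernel)
  simp only [← QuotientGroup.eq_one_iff, QuotientGroup.mk_pow, QuotientGroup.mk_mul, QuotientGroup.mk_inv, ← e, ← e']
  exact ⟨congrArg (QuotientGroup.mk (s := I)) ((h o ho).2 p hp), congrArg (QuotientGroup.mk (s := I)) (h o ho).1⟩

/-- The first involution of the root group in `Γ`. -/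
noncomputable def r1 : Γ := c11 * h0 * c11⁻¹ * h0⁻¹
/-- The second involution of the root group in `Γ`. -/
noncomputable def r2 : Γ := h0 * r1 * h0⁻¹
/-- The first root involution. -/
noncomputable def x1 : B := π1 r1
/-- The second root involution. -/
noncomputable def x2 : B := π1 r2
/-- A Sylow 2-subgroup of `I`. -/
noncomputable def U : Subgroup B := clos [π1 a1, π1 a2, π1 b1, π1 b2]
/-- The root group. -/
noncomputable def X : Set B := {x | x ∈ [1, x1, x2, x1 * x2]}

theorem mem_X {x : B} : x ∈ X ↔ x = 1 ∨ x = x1 ∨ x = x2 ∨ x = x1 * x2 := by simp [X]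

theorem repA : CB.RepL cA' [π1 a1, π1 a2, π1 b1, π1 b2, π1 h0] := by
  simp only [a1, a2, b1, b2, h0, π1_ev]
  exact rep3.words _ cA'_ok

theorem repX : CB.RepL cX [x1, x2] := by
  simp only [x1, x2, r2, r1, c11, map_mul, map_inv]
  exact (repA.term _ (by decide +kernel)).cons ((repA.term _ (by decide +kernel)).cons Cod.repL_nil)

theorem repM : CB.RepL (cX ++ (cA' ++ cG)) [x1, x2, π1 a1, π1 a2, π1 b1, π1 b2, π1 h0, xB, xB⁻¹, wB, o1, o2] :=
  repX.append (repA.append repG)

theorem genU : CB.Lists U_t.dom U ∧ Nat.card U = 64 := (repA.take 4).gen U_ok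

theorem U_le : U ≤ I := clos_le.2 (by simp [I])

/-- The Sylow 2-subgroup. -/
noncomputable def S : Subgroup B := clos (WS.map (evalW (nth 1 gB)))
/-- The centraliser of `x1`. -/
noncomputable def C1 : Subgroup B := clos (WC.map (evalW (nth 1 gB)))
/-- The centraliser of the root group. -/
noncomputable def C2 : Subgroup B := clos (WE.map (evalW (nth 1 gB)))

theorem genS : CB.Lists S_t.dom S ∧ Nat.card S = 256 := (repG.words WS cS_ok).gen S_ok
theorem genC : CB.Lists C_t.dom C1 ∧ Nat.card C1 = 768 := (repG.words WC cC_ok).gen C_ok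
theorem genE : CB.Lists E_t.dom C2 ∧ Nat.card C2 = 384 := (repG.words WE cE_ok).gen E_ok
theorem genI : CB.Lists I_t.dom (cls (tri xB wB) x1) ∧ (cls (tri xB wB) x1).ncard = 315 :=
  rep3.orb (repX.nth 0) I_ok

theorem listsB : CB.ListsL [listDom cX4, U_t.dom, C_t.dom, E_t.dom, I_t.dom] [X, U, C1, C2, cls (tri xB wB) x1] :=
  (Cod.RepL.lists (c := cX4) <| (repX.term 1 (by decide +kernel)).cons <| (repX.term _ (by decide +kernel)).cons <|
    (repX.term _ (by decide +kernel)).cons <| (repX.term _ (by decide +kernel)).cons Cod.repL_nil).cons <|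
      genU.1.cons <| genC.1.cons <| genE.1.cons <| genI.1.cons Cod.listsL_nil

/-- Elements of `I`. -/
noncomputable def Bl : Set B := {x | x ∈ WB.map (evalW (nth 1 (tri xB wB)))}
/-- Conjugating elements. -/
noncomputable def Wl : Set B := {x | x ∈ WW.map (evalW (nth 1 gB))}
/-- Representatives of the outer involutions. -/
noncomputable def Rl : Set B := {x | x ∈ WR.map (evalW (nth 1 gB))}
/-- Commutators. -/
noncomputable def Dl : Set B := {x | x ∈ (WD0 ++ (WD1 ++ WD2)).map (evalW (nth 1 (tri xB wB)))}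

theorem listsS : CB.ListsL [U_t.dom, S_t.dom, listDom cB, listDom cW, listDom cR, listDom (cD0 ++ (cD1 ++ cD2))]
    [U, S, Bl, Wl, Rl, Dl] :=
  genU.1.cons <| genS.1.cons <| (rep3.words WB cB_ok).lists.cons <| (repG.words WW cW_ok).lists.cons <|
    (repG.words WR cR_ok).lists.cons <| (Cod.RepL.lists (by
      simp only [List.map_append]
      exact (rep3.words WD0 cD0_ok).append ((rep3.words WD1 cD1_ok).append (rep3.words WD2 cD2_ok)))).cons Cod.listsL_nil

/-- The three nontrivial products of two letters. -/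
def T3 (a b : Γ) : Set Γ := {x | x ∈ [a, b, a * b]}

theorem repT : CΓ.RepL cTr [r1, r2, r1 * r2] ∧ CΓ.RepL cTa [a1, a2, a1 * a2] ∧ CΓ.RepL cTb [b1, b2, b1 * b2] ∧
    CΓ.RepL cTy [y1, y2, y1 * y2] := by
  simp only [r2, r1]
  refine ⟨?_, ?_, ?_, ?_⟩ <;> exact (HeA.repM.term _ (by decide +kernel)).cons <|
    (HeA.repM.term _ (by decide +kernel)).cons <| (HeA.repM.term _ (by decide +kernel)).cons Cod.repL_nil

theorem repR : CΓ.RepL (cTr.take 2 ++ HeA.cA.take 5) [r1, r2, a1, a2, b1, b2, h0] :=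
  (repT.1.take 2).append (HeA.repA.take 5)

theorem listsT : CΓ.ListsL [listDom cTr, listDom cTa, listDom cTb, listDom cTy, listDom HeA.cSq, Z_t.dom]
    [T3 r1 r2, T3 a1 a2, T3 b1 b2, T3 y1 y2, Sq, Z0] :=
  repT.1.lists.cons <| repT.2.1.lists.cons <| repT.2.2.1.lists.cons <| repT.2.2.2.lists.cons HeA.listsSq

end Cfsg.Agent.STP
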