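import Mathlib
import Cfsg.Agent.STP.BF

/-! Computations in `Aut L₃(4)`. -/

set_option autoImplicit false
set_option synthInstance.maxSize 100000
set_option synthInstance.maxHeartbeats 1000000
set_option maxRecDepth 100000
set_option exponentiation.threshold 10000

namespace Cfsg.Agent.STP

open Cfsg.Agent.Spor Cfsg.Agent.Rec Cfsg.Agent.Spor.MX Cfsg.Agent.Inv.Fz Cfsg.Agent.ONT Subgroup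
open Cfsg.Agent.HeA (a1 a2 b1 b2 h0 c11 c12 c21 c22 Sq)

theorem fX : (x1 ≠ 1 ∧ x2 ≠ 1 ∧ x1 ≠ x2 ∧ x1 * x1 = 1 ∧ x2 * x2 = 1 ∧ x1 ∈ U ∧ x2 ∈ U) ∧ π1 a1 * π1 b2 ∉ X :=
  listsB.decide repM (by decide +kernel)

theorem fU : ∀ u ∈ U, u * x1 = x1 * u ∧ u * x2 = x2 * u ∧ (u ^ 3 = 1 → u = 1) ∧
    (u * u = 1 → u = 1 ∨ u ∈ cls (tri xB wB) x1) ∧
    (u ∉ X → ∃ v ∈ U, Let (v * u * v⁻¹ * u⁻¹) fun a => a ∈ X ∧ a ≠ 1 ∧ ∃ w ∈ U, Let (w * u * w⁻¹ * u⁻¹) fun b =>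
      b ∈ X ∧ b ≠ 1 ∧ a ≠ b) ∧
    (u * u = 1 → u ∉ X → Let (π1 a1 * π1 b2) fun p => Let (π1 a2 * (π1 b1 * π1 b2)) fun q =>
      (p * u * p⁻¹ * u⁻¹ = x2 ∨ p * u * p⁻¹ * u⁻¹ = x1 * x2) ∨ q * u * q⁻¹ * u⁻¹ = x2 ∨ q * u * q⁻¹ * u⁻¹ = x1 * x2) :=
  listsB.decide repM (by decide +kernel)

theorem fC : ∀ n ∈ C1, n * x1 = x1 * n ∧ (n * x2 = x2 * n → n ∈ C2) ∧ (n * xB = xB * n → n * wB = wB * n → n = 1) :=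
  listsB.decide repM (by decide +kernel)

theorem fA : ∀ n ∈ C1, Let (π1 a1 * n * (π1 a1)⁻¹ * n⁻¹) fun a => a ∈ X → Let (π1 a2 * n * (π1 a2)⁻¹ * n⁻¹) fun b =>
    b ∈ X → Let (π1 b1 * n * (π1 b1)⁻¹ * n⁻¹) fun c => Let (π1 b2 * n * (π1 b2)⁻¹ * n⁻¹) fun d => ∀ x ∈ X,
      (a = 1 ∨ a = x) → (b = 1 ∨ b = x) → (c = 1 ∨ c = x) → (d = 1 ∨ d = x) → n ∈ X :=
  listsB.decide repM (by decide +kernel)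

theorem fY : ∀ y ∈ C2, y ^ 3 = 1 → y * (π1 a1 * π1 b2) = π1 a1 * π1 b2 * y → y = 1 :=
  listsB.decide repM (by decide +kernel)

theorem fS : (∀ s ∈ S, s * s = 1 → s ∉ U → ∃ g ∈ Wl, Let (g * s * g⁻¹) fun s' => s' ∈ Rl ∧
      ∀ t ∈ S, t * t = 1 → s * t = t * s → t ≠ 1 → t ≠ s → Let (g * t * g⁻¹) fun t' => ∃ d ∈ Dl,
        Let (d * t' * d⁻¹) fun e => e * t' ≠ t' * e ∧ ∃ b ∈ Bl, b * s' = s' * b ∧ ∃ c ∈ Bl, c * s' = s' * c ∧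
          d = b * c * b⁻¹ * c⁻¹) ∧
    (∀ s ∈ Rl, ∃ a ∈ Bl, a * s = s * a ∧ ∃ b ∈ Bl, b * s = s * b ∧ Let (a * b * a⁻¹ * b⁻¹) fun e =>
      e ≠ 1 ∧ e * e = 1 ∧ ∃ u ∈ Bl, u * s * u⁻¹ = e * s) ∧
    ∃ i ∈ Bl, i * x1 * i⁻¹ * x1 ≠ x1 * (i * x1 * i⁻¹) := listsS.decide repM (by decide +kernel)

end Cfsg.Agent.STP
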