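import Mathlib
import Cfsg.Agent.STP.BF
import Cfsg.Agent.STP.BD2

/-! Computations in the centraliser of a root group in `Aut L₃(4)`. -/

set_option autoImplicit false
set_option synthInstance.maxSize 100000
set_option synthInstance.maxHeartbeats 1000000
set_option maxRecDepth 100000
set_option exponentiation.threshold 10000

namespace Cfsg.Agent.STP

open Cfsg.Agent.Spor Cfsg.Agent.Rec Cfsg.Agent.Spor.MX Cfsg.Agent.Inv.Fz Cfsg.Agent.ONT Subgroup
open Cfsg.Agent.HeA (a1 a2 b1 b2 h0 c11 c12 c21 c22 Sq)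

theorem fE : ∀ a ∈ C2, a * a = 1 → a ∉ X → ∀ b ∈ C2, a * b = b * a → b * b = 1 := by
  have h := repG.words WJ cJ_ok
  have h0 := ((repG.words WE cE_ok).orb (h.nth 0) J0_ok).1
  have h1 := ((repG.words WE cE_ok).orb (h.nth 1) J1_ok).1
  have hp := (h.nth 0).cons ((h.nth 1).cons Cod.repL_nil)
  generalize nth 1 (WJ.map (evalW (nth 1 gB))) 0 = p, nth 1 (WJ.map (evalW (nth 1 gB))) 1 = q at h0 h1 hp
  have k : ∀ {p : B}, (∀ b ∈ C2, p * b = b * p → b * b = 1) → ∀ a ∈ cls (WE.map (evalW (nth 1 gB))) p,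
      ∀ b ∈ C2, a * b = b * a → b * b = 1 := by
    rintro p hp _ ⟨g, hg, rfl⟩ b hb e
    have := hp (g⁻¹ * b * g) (mul_mem (mul_mem (inv_mem hg) hb) hg) (by
      calc _ = g⁻¹ * (g * p * g⁻¹ * b) * g := by group
        _ = _ := by rw [e]; group)
    calc b * b = g * (g⁻¹ * b * g * (g⁻¹ * b * g)) * g⁻¹ := by group
      _ = 1 := by rw [this]; group
  generalize cls (WE.map (evalW (nth 1 gB))) = T at h0 h1 k
  have h2 : (∀ b ∈ C2, p * b = b * p → b * b = 1) ∧ (∀ b ∈ C2, q * b = b * q → b * b = 1) ∧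
      ∀ a ∈ C2, a * a = 1 → a ∉ X → a ∈ T p ∨ a ∈ T q := (h0.cons (h1.cons listsB)).decide hp (by decide +kernel)
  exact fun a ha a2 aX => (h2.2.2 a ha a2 aX).elim (k h2.1 a) (k h2.2.1 a)

end Cfsg.Agent.STP
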