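import Mathlib
import Cfsg.Agent.STP.BF

/-! Computations in `4².L₃(4)`. -/

set_option autoImplicit false
set_option synthInstance.maxSize 100000
set_option synthInstance.maxHeartbeats 1000000
set_option maxRecDepth 100000
set_option exponentiation.threshold 10000

namespace Cfsg.Agent.STP

open Cfsg.Agent.Spor Cfsg.Agent.Rec Cfsg.Agent.Spor.MX Cfsg.Agent.Inv.Fz Cfsg.Agent.ONT Subgroup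
open Cfsg.Agent.HeA (a1 a2 b1 b2 h0 c11 c12 c21 c22 Sq)

theorem fG : (r1 * r1 = 1 ∧ r2 * r2 = 1 ∧ r1 * r2 = r2 * r1 ∧ h0 * r2 * h0⁻¹ = r1 * r2 ∧
      a1 * b2 * r1 = r1 * (a1 * b2) ∧ a2 * (b1 * b2) * r1 = r1 * (a2 * (b1 * b2)) ∧ (a1 * b2) ^ 16 = 1) ∧
    (∀ q ∈ Sq, q * q = 1 ∧ q ∈ Z0 ∧ (q = 1 ∨ (∃ a ∈ T3 a1 a2, ∃ b ∈ T3 b1 b2, Let (a * b) fun p =>
        p * r2 = r2 * p ∧ p * r1 * p⁻¹ = q * r1) ∧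
      ∃ a ∈ T3 a1 a2, ∃ b ∈ T3 b1 b2, Let (a * b) fun p => p * (r1 * r2) = r1 * r2 * p ∧ p * r1 * p⁻¹ = q * r1)) ∧
    (∀ z ∈ Z0, z * z ∈ Sq) ∧
    (∀ a ∈ T3 a1 a2, a * a ∈ Sq ∧ a * r1 * (r1 * a)⁻¹ ∈ Sq ∧ a * r2 * (r2 * a)⁻¹ ∈ Sq ∧
      ∀ a' ∈ T3 a1 a2, a * a' * (a' * a)⁻¹ ∈ Sq) ∧
    (∀ b ∈ T3 b1 b2, b * r1 * (r1 * b)⁻¹ ∈ Sq ∧ b * r2 * (r2 * b)⁻¹ ∈ Sq) ∧
    (∀ r ∈ T3 r1 r2, ∀ y ∈ T3 y1 y2, ∃ a ∈ T3 a1 a2, ∃ b ∈ T3 b1 b2, a * b * a⁻¹ * b⁻¹ * (r * y)⁻¹ ∈ Sq ∧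
      ∃ a' ∈ T3 a1 a2, ∃ b' ∈ T3 b1 b2, Let (a * b' * a⁻¹ * b'⁻¹) fun p => Let (a' * b * (a' * b)) fun q =>
        p ∉ Z0 ∧ q ∉ Z0 ∧ p * r⁻¹ ∉ Z0 ∧ q * r⁻¹ ∉ Z0) := listsT.decide repR (by decide +kernel)

end Cfsg.Agent.STP
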