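import Mathlib
import Cfsg.Agent.STP.BF1
import Cfsg.Agent.STP.BF2
import Cfsg.Agent.STP.BF3
import Cfsg.Agent.Cl.AutPSLField

/-! Consequences of the computations in `Aut L₃(4)`. -/

set_option autoImplicit false
set_option synthInstance.maxSize 100000
set_option synthInstance.maxHeartbeats 1000000
set_option maxRecDepth 100000
set_option exponentiation.threshold 10000

namespace Cfsg.Agent.STP

open Cfsg.Agent.Spor Cfsg.Agent.Rec Cfsg.Agent.Spor.MX Cfsg.Agent.Inv.Fz Cfsg.Agent.ONT Subgroup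
open Cfsg.Agent.HeA (a1 a2 b1 b2 h0)

theorem fK : ∀ a ∈ X, a ∈ U ∧ ∀ b ∈ X, a ≠ 1 → b ≠ 1 → a ≠ b → ∀ x ∈ X, x = 1 ∨ x = a ∨ x = b ∨ x = a * b :=
  listsB.decide repM (by decide +kernel)

theorem fT : ∀ r ∈ T3 r1 r2, r * r = 1 ∧ r ∉ Z0 ∧ ∀ s ∈ T3 r1 r2, r ≠ s → r * s ∈ T3 r1 r2 ∧ r * s ≠ r ∧ r * s ≠ s ∧
    (h0 * r * h0⁻¹ = s ∨ h0 * s * h0⁻¹ = r) := listsT.decide repR (by decide +kernel)

theorem liftX {x : B} (h : x ∈ X) (h1 : x ≠ 1) : ∃ r ∈ T3 r1 r2, π1 r = x := by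
  rcases mem_X.1 h with rfl | rfl | rfl | rfl
  exacts [absurd rfl h1, ⟨r1, by simp [T3], rfl⟩, ⟨r2, by simp [T3], rfl⟩, ⟨r1 * r2, by simp [T3], map_mul _ _ _⟩]

theorem T3_X {r : Γ} (h : r ∈ T3 r1 r2) : π1 r ∈ X := by
  simp only [T3, List.mem_cons, List.not_mem_nil, or_false, Set.mem_ofPred_eq] at h
  rcases h with rfl | rfl | rfl <;> simp [mem_X, x1, x2]

theorem T3_le {H : Subgroup Γ} {a b x : Γ} (ha : a ∈ H) (hb : b ∈ H) (h : x ∈ T3 a b) : x ∈ H := by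
  simp only [T3, List.mem_cons, List.not_mem_nil, or_false, Set.mem_ofPred_eq] at h
  rcases h with rfl | rfl | rfl
  exacts [ha, hb, mul_mem ha hb]

theorem π1_mem (γ : Γ) : π1 γ ∈ I := ⟨γ, rfl⟩

theorem cenU {i : B} (hi : i ∈ I) (h : i * x1 = x1 * i) : i ∈ U :=
  mem_of_cls (xs := tri xB wB) (I_eq ▸ U_le) (fun u hu => (fU u hu).1)
    (by rw [← I_eq, card_I, genI.2, genU.2]) i (I_eq ▸ hi) h

theorem card_B' : Nat.card B = 241920 := by
  refine le_antisymm (Nat.le_of_dvd (by norm_num) card_B) ?_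
  have := mul_card_le_of_conj (K := C1) (L := ⊤) (z := x1) le_top (fun k hk => (fC k hk).1)
    (S := cls (tri xB wB) x1) fun _ ⟨g, _, e⟩ => ⟨g, mem_top g, e⟩
  rwa [genI.2, genC.2, card_top] at this

theorem cenC {n : B} (h : n * x1 = x1 * n) : n ∈ C1 := by
  refine mem_of_cls (xs := gB) (topG ▸ le_top) (fun u hu => (fC u hu).1) ?_ n (topG ▸ mem_top n) h
  have := Set.ncard_le_ncard (s := cls (tri xB wB) x1) (t := cls gB x1)
    (fun _ ⟨g, _, e⟩ => ⟨g, topG ▸ mem_top g, e⟩) (Set.toFinite _)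
  rw [topG, card_top, card_B', genC.2]
  rw [genI.2] at this
  omega

theorem cenI {n : B} (h : ∀ i ∈ I, n * i = i * n) : n = 1 :=
  (fC n (cenC (h _ (π1_mem _)))).2.2 (h _ (I_eq ▸ x_mem _ _)) (h _ (I_eq ▸ w_mem _ _))

theorem pg_inv {G : Type*} [Group G] {x : G} (h : x * x = 1) : IsPGroup 2 (zpowers x) := by
  obtain ⟨k, -, hk⟩ := (Nat.dvd_prime_pow Nat.prime_two).1
    (orderOf_dvd_of_pow_eq_one (show x ^ 2 ^ 1 = 1 by rwa [pow_one, pow_two]))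
  exact IsPGroup.of_card (by rw [Nat.card_zpowers, hk])

theorem invI {i : B} (hi : i ∈ I) (h : i * i = 1) (h1 : i ≠ 1) : ∃ g ∈ I, g * i * g⁻¹ = x1 := by
  obtain ⟨g, hg, e⟩ := exists_conj_mem_syl (isSylIn_of_card (p := 2) (k := 6) (m := 315) U_le genU.2 card_I
    (by norm_num)) hi (k := 1) (by rwa [pow_one, pow_two])
  obtain ⟨k, hk, e⟩ := ((fU _ e).2.2.2.1 (conj_sq h)).resolve_left fun e => h1 (conj_eq_one.1 e)
  refine ⟨k⁻¹ * g, mul_mem (inv_mem (I_eq ▸ hk)) hg, ?_⟩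
  calc _ = k⁻¹ * (g * i * g⁻¹) * k := by group
    _ = _ := by rw [← e]; group

theorem toS {s t : B} (hs : s * s = 1) (ht : t * t = 1) (h : s * t = t * s) :
    ∃ g, g * s * g⁻¹ ∈ S ∧ g * t * g⁻¹ ∈ S := by
  obtain ⟨g, -, e⟩ := (isSylIn_of_card (p := 2) (k := 8) (m := 945) (H := ⊤) le_top genS.2 (by rw [card_top, card_B']; norm_num)
    (by norm_num)).exists_cj_le (Q := zpowers s ⊔ zpowers t)
      ((pg_inv hs).to_sup_of_normal_right' (pg_inv ht) (zpowers_le.2 (centralizer_le_normalizer _ (by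
        rintro _ ⟨k, rfl⟩
        exact (Commute.zpow_left h.symm k).eq)))) le_top
  exact ⟨g, cj_le_iff.1 e _ (mem_sup_left (mem_zpowers s)), cj_le_iff.1 e _ (mem_sup_right (mem_zpowers t))⟩

theorem Bl_le {b : B} (h : b ∈ Bl) : b ∈ I := words_I _ b h

theorem cjI (g : B) {i : B} : MulAut.conj g i ∈ I ↔ i ∈ I :=
  ⟨fun h => by simpa [mul_assoc] using I_normal.conj_mem _ h g⁻¹, fun h => I_normal.conj_mem _ h g⟩

theorem p13 {s t : B} (hs : s * s = 1) (ht : t * t = 1) (h : s * t = t * s) (h1 : s ∉ I) (h2 : t ≠ 1) (h3 : t ≠ s) :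
    ∃ b ∈ I, ∃ c ∈ I, b * s = s * b ∧ c * s = s * c ∧ ∀ d, d = b * c * b⁻¹ * c⁻¹ →
      d * t * d⁻¹ * t ≠ t * (d * t * d⁻¹) := by
  obtain ⟨g, e1, e2⟩ := toS hs ht h
  obtain ⟨k, -, -, h4⟩ := fS.1 _ e1 (conj_sq hs) fun e => h1 ((cjI g).1 (U_le e))
  obtain ⟨d, -, h5, b, hb, h6, c, hc, h7, rfl⟩ := h4 _ e2 (conj_sq ht) (by rw [conj_mul, conj_mul, h])
    (fun e => h2 (conj_eq_one.1 e)) fun e => h3 (by simpa using e)
  let φ : MulAut B := MulAut.conj k * MulAut.conj g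
  change b * φ s = φ s * b at h6
  change c * φ s = φ s * c at h7
  change _ * φ t * _ * φ t ≠ φ t * (_ * φ t * _) at h5
  obtain ⟨b, rfl⟩ := φ.surjective b
  obtain ⟨c, rfl⟩ := φ.surjective c
  simp only [← map_mul φ, ← map_inv φ, EmbeddingLike.apply_eq_iff_eq, ne_eq] at h5 h6 h7
  exact ⟨b, (cjI g).1 ((cjI k).1 (Bl_le hb)), c, (cjI g).1 ((cjI k).1 (Bl_le hc)), h6, h7, fun _ e => e ▸ h5⟩

theorem outI {s : B} (hs : s * s = 1) (h1 : s ∉ I) : ∃ a ∈ I, ∃ b ∈ I, ∃ u ∈ I, a * s = s * a ∧ b * s = s * b ∧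
    ∀ e, e = a * b * a⁻¹ * b⁻¹ → e ≠ 1 ∧ e * e = 1 ∧ u * s * u⁻¹ = e * s := by
  obtain ⟨g, e1, -⟩ := toS hs hs rfl
  obtain ⟨k, -, h4, -⟩ := fS.1 _ e1 (conj_sq hs) fun e => h1 ((cjI g).1 (U_le e))
  obtain ⟨a, ha, h5, b, hb, h6, h7, h8, u, hu, h9⟩ := fS.2.1 _ h4
  let φ : MulAut B := MulAut.conj k * MulAut.conj g
  change a * φ s = φ s * a at h5
  change b * φ s = φ s * b at h6
  change u * φ s * _ = _ * φ s at h9
  obtain ⟨a, rfl⟩ := φ.surjective a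
  obtain ⟨b, rfl⟩ := φ.surjective b
  obtain ⟨u, rfl⟩ := φ.surjective u
  simp only [← map_mul φ, ← map_inv φ, EmbeddingLike.apply_eq_iff_eq, ne_eq, EmbeddingLike.map_eq_one_iff]
    at h5 h6 h7 h8 h9
  exact ⟨a, (cjI g).1 ((cjI k).1 (Bl_le ha)), b, (cjI g).1 ((cjI k).1 (Bl_le hb)), u, (cjI g).1 ((cjI k).1 (Bl_le hu)),
    h5, h6, fun _ e => e ▸ ⟨h7, h8, h9⟩⟩

theorem liftU {u : B} (h : u ∈ U) : ∃ γ ∈ clos [a1, a2, b1, b2], π1 γ = u := by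
  have : (clos [a1, a2, b1, b2]).map π1 = U := by rw [map_clos]; rfl
  exact mem_map.1 (this ▸ h)

theorem card_aut : Nat.card (MulAut L) = 241920 := by
  have h3 : Nat.card Cl.GF4 = 2 ^ 2 := by rw [Nat.card_eq_fintype_card]; rfl
  have h1 := Cl.card_pgl_mul (ι := Fin 3) (F := Cl.GF4)
  rw [Matrix.card_GL_field, h3, show Fintype.card Cl.GF4 = 4 from rfl] at h1
  simp only [Fin.prod_univ_three, Fin.val_zero, Fin.val_one, Fin.val_two] at h1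
  rw [Cl.Aut.card_aut_psl_three (by simp), Cl.Aut.card_ringAut (p := 2) (f := 2) h3]
  omega

theorem exists_Ψ : ∃ Ψ : MulAut L ≃* B, ∀ γ, Ψ (MulAut.conj (π0 γ)) = π1 γ := by
  let j : L →* B := π0.liftOfSurjective π0_surj ⟨π1, fun γ h => π1_eq_one.2 (π0_eq_one.1 h)⟩
  have hj : ∀ γ, j (π0 γ) = π1 γ := fun γ => MonoidHom.liftOfRightInverse_comp_apply _ _ _ _ γ
  let e : L ≃* I := MulEquiv.ofBijective (j.codRestrict I fun l => by
    obtain ⟨γ, rfl⟩ := π0_surj l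
    exact hj γ ▸ π1_mem γ) ⟨(injective_iff_map_eq_one _).2 fun l h => by
      obtain ⟨γ, rfl⟩ := π0_surj l
      exact π0_eq_one.2 (π1_eq_one.1 ((hj γ).symm.trans (congrArg Subtype.val h))), by
      rintro ⟨_, γ, rfl⟩
      exact ⟨π0 γ, Subtype.ext (hj γ)⟩⟩
  let Φ : B →* MulAut L := (MulAut.congr e.symm).toMonoidHom.comp (MulAut.conjNormal (H := I))
  have h1 : Function.Injective Φ := (injective_iff_map_eq_one _).2 fun b h => cenI fun i hi => by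
    have h2 : MulAut.conjNormal (H := I) b = 1 := (MulAut.congr e.symm).map_eq_one_iff.1 h
    have h3 := congrArg Subtype.val (DFunLike.congr_fun h2 (⟨i, hi⟩ : I))
    rw [MulAut.conjNormal_apply] at h3
    exact mul_inv_eq_iff_eq_mul.1 h3
  refine ⟨(MulEquiv.ofBijective Φ ((Nat.bijective_iff_injective_and_card _).2
    ⟨h1, card_B'.trans card_aut.symm⟩)).symm, fun γ => (MulEquiv.symm_apply_eq _).2 (MulEquiv.ext fun l => ?_)⟩
  refine e.injective (Subtype.ext ?_)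
  show j (π0 γ * l * (π0 γ)⁻¹) = _
  rw [map_mul, map_mul, map_inv, hj]
  simp [Φ]
  rfl

end Cfsg.Agent.STP
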