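import Mathlib
import Cfsg.Agent.STP.BG
import Cfsg.Agent.S2088
import Cfsg.Agent.Ch.UniversalCover

/-! Covers of `L₃(4)` as images of `Γ` modulo the elements of order three of the centre. -/

set_option autoImplicit false

namespace Cfsg.Agent.STP.Ev

open Cfsg.Agent.Spor Cfsg.Agent.Rec Cfsg.Agent.Spor.MX Cfsg.Agent.Inv.Fz Cfsg.Agent.ONT Subgroup
open Cfsg.Agent.HeA (a1 a2 b1 b2 h0)

variable {M : Type*} [Group M]

theorem exists_η [Group.IsPerfect M] (φ : M →* B) (hφ : φ.range = I)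
    (hk : ∀ m, φ m = 1 → m ∈ center M ∧ m ^ 4 = 1) :
    ∃ η : Γ →* M, Function.Surjective η ∧ ∀ γ, φ (η γ) = π1 γ := by
  have lift : ∀ a : Γ, a ^ 7 = 1 → ∃ m, φ m = π1 a ∧ m ^ 7 = 1 := fun a ha => by
    obtain ⟨m, hm⟩ : π1 a ∈ φ.range := hφ ▸ π1_mem a
    refine ⟨m ^ 8, by rw [map_pow, hm, ← map_pow, pow_succ, ha, one_mul], ?_⟩
    rw [← pow_mul, show 8 * 7 = 7 * 4 * 2 by norm_num, pow_mul, pow_mul,
      (hk _ (by rw [map_pow, hm, ← map_pow, ha, map_one])).2, one_pow]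
  obtain ⟨x, h1, h2⟩ := lift _ lf0.1
  obtain ⟨u, h3, h4⟩ := lift _ lf0.2.1
  have h5 : φ (x⁻¹ * u) = π1 w0 := by rw [map_mul, map_inv, h1, h3, map_mul, inv_mul_cancel_left]
  obtain ⟨η, h6, h7⟩ := Lf.exists_hom (x := x) (w := x⁻¹ * u) ⟨h2, by rwa [mul_inv_cancel_left], fun i => by
    have h := hk (ev x (x⁻¹ * u) (l34_rels.get i)) (by
      rw [map_ev, h1, h5, ← map_ev, π1_eq_one, ← π0_eq_one, π0_ev, relL])
    exact ⟨(mem_center_iff.1 h.1 _).symm, (mem_center_iff.1 h.1 _).symm, h.2⟩⟩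
  have h8 : ∀ γ, φ (η γ) = π1 γ := DFunLike.congr_fun (hom_ext (f := φ.comp η) (by simp [h6, h1]) (by simp [h7, h5]))
  have h9 : ∀ m, ∃ γ, ∃ z ∈ center M, m = η γ * z := fun m => by
    obtain ⟨γ, hγ⟩ : φ m ∈ I := hφ ▸ ⟨m, rfl⟩
    exact ⟨γ, (η γ)⁻¹ * m, (hk _ (by rw [map_mul, map_inv, h8, hγ, inv_mul_cancel])).1, by group⟩
  refine ⟨η, ?_, h8⟩
  rw [← MonoidHom.range_eq_top, eq_top_iff, ← Group.IsPerfect.commutator_eq_top, commutator_def, commutator_le]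
  rintro a - b -
  obtain ⟨γ, z, hz, rfl⟩ := h9 a
  obtain ⟨δ, z', hz', rfl⟩ := h9 b
  refine ⟨γ * δ * γ⁻¹ * δ⁻¹, ?_⟩
  have e1 : η γ * z * (η δ * z') * (η γ * z)⁻¹ = η γ * η δ * (η γ)⁻¹ * z' := by
    rw [mul_assoc (η γ), ← mem_center_iff.1 hz, mul_assoc (η γ * η δ), mem_center_iff.1 hz' (η γ)⁻¹]
    group
  rw [commutatorElement_def, e1]
  simp [mul_assoc]

theorem exists_r [Group.IsPerfect M] (φ : M →* B) (hφ : φ.range = I)
    (hk : ∀ m, φ m = 1 → m ∈ center M ∧ m ^ 12 = 1) :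
    ∃ r, φ r = x1 ∧ r * r = 1 ∧ ∀ y, φ y = x2 ∨ φ y = π1 (a1 * b2) → y * r = r * y := by
  let T : Subgroup M := ⟨⟨⟨{z | φ z = 1 ∧ z ^ 3 = 1}, fun {a b} ha hb => ⟨by rw [map_mul, ha.1, hb.1, one_mul], by
    rw [Commute.mul_pow (mem_center_iff.1 (hk b hb.1).1 a), ha.2, hb.2, one_mul]⟩⟩, by simp⟩,
      fun {a} ha => ⟨by rw [map_inv, ha.1, inv_one], by rw [inv_pow, ha.2, inv_one]⟩⟩
  have : T.Normal := ⟨fun z hz g => by rwa [mem_center_iff.1 (hk z hz.1).1 g, mul_inv_cancel_right]⟩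
  have := Group.IsPerfect.ofSurjective (QuotientGroup.mk'_surjective T)
  let ψ : M ⧸ T →* B := QuotientGroup.lift T φ fun z hz => hz.1
  have h0 : ∀ m, ψ m = 1 → m ∈ center (M ⧸ T) ∧ m ^ 4 = 1 := fun m hm => by
    obtain ⟨m, rfl⟩ := QuotientGroup.mk_surjective m
    refine ⟨mem_center_iff.2 fun g => ?_, (QuotientGroup.eq_one_iff (m ^ 4)).2
      ⟨by rw [map_pow, show φ m = 1 from hm, one_pow], by rw [← pow_mul, (hk m hm).2]⟩⟩
    obtain ⟨g, rfl⟩ := QuotientGroup.mk_surjective g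
    exact congrArg QuotientGroup.mk (mem_center_iff.1 (hk m hm).1 g)
  obtain ⟨η, -, h2⟩ := exists_η ψ (by
    rw [← hφ]
    refine le_antisymm ?_ fun _ ⟨m, e⟩ => ⟨m, e⟩
    rintro _ ⟨m, rfl⟩
    obtain ⟨m, rfl⟩ := QuotientGroup.mk_surjective m
    exact ⟨m, rfl⟩) h0
  obtain ⟨r, hr⟩ := QuotientGroup.mk_surjective (η r1)
  have h3 : (r ^ 2) ^ 3 = 1 := ((QuotientGroup.eq_one_iff (N := T) (r ^ 2)).1 (by
    rw [QuotientGroup.mk_pow, hr, pow_two, ← map_mul, fG.1.1, map_one])).2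
  have h4 : r ^ 3 * r ^ 3 = 1 := by rw [← h3]; group
  refine ⟨r ^ 3, ?_, h4, fun y hy => ?_⟩
  · rw [map_pow, show φ r = x1 from (congrArg ψ hr).trans (h2 r1), pow_three, fX.1.2.2.2.1, mul_one]
  obtain ⟨γ, e1, e2⟩ : ∃ γ, φ y = π1 γ ∧ Commute γ r1 :=
    hy.elim (fun e => ⟨r2, e, fG.1.2.2.1.symm⟩) fun e => ⟨_, e, fG.1.2.2.2.2.1⟩
  have h5 : Commute (y : M ⧸ T) r := by
    rw [← mul_inv_cancel_left (η γ) y, hr]
    exact (e2.map η).mul_left (mem_center_iff.1 (h0 _ (by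
      rw [map_mul, map_inv, h2, ← e1]; exact inv_mul_cancel _)).1 _).symm
  obtain ⟨h6, h7⟩ : y * r ^ 3 * y⁻¹ * (r ^ 3)⁻¹ ∈ T := (QuotientGroup.eq_one_iff _).1 (by
    simp only [QuotientGroup.mk_mul, QuotientGroup.mk_inv, QuotientGroup.mk_pow, (h5.pow_right 3).eq]
    group)
  have h8 := conj_sq (g := y) h4
  rw [← mul_inv_eq_iff_eq_mul, ← mul_inv_eq_one]
  rw [← inv_mul_cancel_right (y * r ^ 3 * y⁻¹) (r ^ 3)] at h8
  generalize y * r ^ 3 * y⁻¹ * (r ^ 3)⁻¹ = c at h6 h7 h8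
  rw [mul_assoc, ← mul_assoc (r ^ 3), mem_center_iff.1 (hk _ h6).1, mul_assoc _ (r ^ 3), h4, mul_one] at h8
  rwa [pow_three, h8, mul_one] at h7

theorem mult [Group.IsPerfect M] (e : M ⧸ center M ≃* L) : (∀ z ∈ center M, z ^ 12 = 1) ∧
    ∀ c ∈ center M, ∀ d ∈ center M, c ^ 3 = 1 → d ^ 3 = 1 → c ≠ 1 → d ≠ 1 → d = c ∨ d = c⁻¹ := by
  let π : M →* L := e.toMonoidHom.comp (QuotientGroup.mk' _)
  have hk : π.ker = center M := Subgroup.ext fun m => e.map_eq_one_iff.trans (QuotientGroup.eq_one_iff _)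
  obtain ⟨θ, hθ⟩ := (S2088.result (F := Cl.GF4) rfl).exists_surjective_ker π
    (Ch.isStemExtension_of_isPerfect (e.surjective.comp (QuotientGroup.mk'_surjective _)) hk.le)
  rw [← hk]
  have h1 : ∀ u : Multiplicative (ZMod 3 × ZMod 4 × ZMod 4), u ^ 12 = 1 ∧
      (u ^ 4 = 1 ∨ u ^ 4 = .ofAdd (1, 0, 0) ∨ u ^ 4 = (.ofAdd (1, 0, 0))⁻¹) := by decide +kernel
  have h2 : ∀ c ∈ π.ker, c ^ 3 = 1 → c ≠ 1 → c = θ (.ofAdd (1, 0, 0)) ∨ c = (θ (.ofAdd (1, 0, 0)) : M)⁻¹ :=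
    fun c hc h3 h4 => by
      obtain ⟨u, hu⟩ := hθ ⟨c, hc⟩
      have h5 : (θ (u ^ 4) : M) = c := by rw [map_pow, hu, SubmonoidClass.coe_pow, pow_succ, h3, one_mul]
      rcases (h1 u).2 with h | h | h <;> rw [h] at h5
      · exact absurd (by simpa using h5.symm) h4
      · exact .inl h5.symm
      · exact .inr (by simpa using h5.symm)
  refine ⟨fun z hz => ?_, fun c hc d hd h3 h4 h5 h6 => ?_⟩
  · obtain ⟨u, hu⟩ := hθ ⟨z, hz⟩
    exact congrArg Subtype.val (show (⟨z, hz⟩ : π.ker) ^ 12 = 1 by rw [← hu, ← map_pow, (h1 u).1, map_one])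
  · rcases h2 c hc h3 h5 with a | a <;> rcases h2 d hd h4 h6 with b | b <;> simp [a, b]

end Cfsg.Agent.STP.Ev
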